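import Groth.Agent.EtFound.Detect
import Groth.Agent.EtBC.CompNBase
import Groth.Agent.EtBC.ViaTools
import Groth.Agent.EtMVLib.HpullApply

/-!
# Detection by jointly surjective families
-/

set_option autoImplicit false
set_option linter.style.haveILetI false
universe u

open CategoryTheory CategoryTheory.Limits AlgebraicGeometry Opposite CategoryTheory.Abelian

namespace Groth.Agent.AcycCover

open Groth.Agent.EtLimit Groth.Agent.EtFound Groth.Agent.EtBC

set_option backward.isDefEq.respectTransparency.types false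

variable {X : Scheme.{u}}

/-- a geometric point over a point in the image -/
theorem exists_extension {X' : Scheme.{u}} (f : X' ⟶ X) {k : Type u} [Field k] [IsSepClosed k]
    (ξ : Spec (CommRingCat.of k) ⟶ X) (hξ : ξ.base default ∈ Set.range f.base) :
    ∃ (Ω : Type u) (_ : Field Ω) (_ : IsSepClosed Ω) (ζ : Spec (CommRingCat.of Ω) ⟶ X')
      (l : Spec (CommRingCat.of Ω) ⟶ Spec (CommRingCat.of k)), ζ ≫ f = l ≫ ξ := by
  obtain ⟨x', hx'⟩ := hξ
  obtain ⟨z, -, -⟩ := Scheme.Pullback.exists_preimage_pullback (f := f) (g := ξ) x' default hx'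
  let Ω := SeparableClosure ((pullback f ξ).residueField z)
  let m : Spec (CommRingCat.of Ω) ⟶ pullback f ξ :=
    Spec.map (CommRingCat.ofHom (algebraMap ((pullback f ξ).residueField z) Ω)) ≫ (pullback f ξ).fromSpecResidueField z
  exact ⟨Ω, inferInstance, inferInstance, m ≫ pullback.fst f ξ, m ≫ pullback.snd f ξ,
    by simp only [Category.assoc, pullback.condition]⟩

variable {ι : Type*} {Xi : ι → Scheme.{u}} (f : ∀ i, Xi i ⟶ X) (hcov : ∀ x : X, ∃ i, x ∈ Set.range (f i).base)

include hcov in
/-- inverse images along a jointly surjective family are jointly faithful -/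
theorem eq_zero_of_pull {F G : EtCoh.Ab X} (a : F ⟶ G) (h : ∀ i, (EtCoh.pull (f i)).map a = 0) : a = 0 := by
  refine eq_of_stalks a 0 fun k _ _ ξ => ?_
  obtain ⟨i, hi⟩ := hcov (ξ.base default)
  obtain ⟨Ω, _, _, ζ, l, hl⟩ := exists_extension (f i) ξ hi
  haveI : (EtCoh.pull (f i)).Additive :=
    haveI := (EtCoh.pullPushAdj (f i)).leftAdjoint_preservesColimits
    Functor.additive_of_preserves_binary_products _
  apply (stalkExtIso AddCommGrpCat.{u + 1} ξ l).hom.app G |> cancel_mono |>.1
  rw [NatTrans.naturality, NatTrans.naturality]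
  apply (cancel_epi ((stalkExtIso AddCommGrpCat.{u + 1} ξ l).hom.app F)).2
  rw [← hl]
  apply (cancel_epi ((sheafFiberPullIso (A := AddCommGrpCat.{u + 1}) (f i) ζ).hom.app F)).1
  rw [← NatTrans.naturality, ← NatTrans.naturality]
  refine congrArg (· ≫ _) (congrArg (Scheme.pointSmallEtale ζ).sheafFiber.map ?_)
  exact (h i).trans ((EtCoh.pull (f i)).map_zero F G).symm

variable [∀ i, PreservesFiniteLimits (EtCoh.pull (f i))]

include hcov in
/-- a section vanishing on a jointly surjective family vanishes -/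
theorem eq_zero_of_Hpull {G : EtCoh.Ab X} (s : EtCoh.H X G 0) (h : ∀ i, EtCore.Hpull (f i) G 0 s = 0) : s = 0 := by
  obtain ⟨a, rfl⟩ := (Ext.mk₀_bijective _ _).2 s
  refine (congrArg Ext.mk₀ (eq_zero_of_pull f hcov a fun i => ?_)).trans (Ext.mk₀_zero _ _)
  haveI : PreservesColimitsOfSize.{0, 0} (EtCoh.pull (f i)) := (EtCoh.pullPushAdj (f i)).leftAdjoint_preservesColimits
  haveI : PreservesFiniteColimits (EtCoh.pull (f i)) := PreservesColimitsOfSize.preservesFiniteColimits _
  haveI : (EtCoh.pull (f i)).Additive := Functor.additive_of_preserves_binary_products _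
  have h' := h i
  rw [EtMVLib.Hpull_apply, Ext.mapExactFunctor_mk₀, Ext.mk₀_comp_mk₀] at h'
  have h2 := (Ext.mk₀_bijective _ _).1 (h'.trans (Ext.mk₀_zero _ _).symm)
  exact (cancel_epi (EtCore.pullConst (f i) ℤ).inv).1 (h2.trans comp_zero.symm)

omit [∀ i, PreservesFiniteLimits (EtCoh.pull (f i))] in
include hcov in
/-- a sum of transposes of monomorphisms is a monomorphism -/
theorem mono_of_transposes {F P : EtCoh.Ab X} (a : F ⟶ P) (J : ∀ i, EtCoh.Ab (Xi i))
    (j : ∀ i, (EtCoh.pull (f i)).obj F ⟶ J i) [∀ i, Mono (j i)] (π : ∀ i, P ⟶ (EtCoh.push (f i)).obj (J i))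
    (h : ∀ i, a ≫ π i = (EtCoh.pullPushAdj (f i)).homEquiv _ _ (j i)) : Mono a := by
  refine Preadditive.mono_of_cancel_zero _ fun {T} k hk => eq_zero_of_pull f hcov k fun i => ?_
  haveI : (EtCoh.pull (f i)).Additive :=
    haveI := (EtCoh.pullPushAdj (f i)).leftAdjoint_preservesColimits
    Functor.additive_of_preserves_binary_products _
  refine (cancel_mono (j i)).1 ?_
  refine ((EtCoh.pullPushAdj (f i)).homEquiv _ _).injective ?_
  rw [Adjunction.homEquiv_naturality_left, ← h i, reassoc_of% hk, zero_comp, zero_comp]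
  exact ((EtCoh.pullPushAdj (f i)).homAddEquiv _ _).map_zero.symm

omit hcov [∀ i, PreservesFiniteLimits (EtCoh.pull (f i))] in
/-- pullback along a surjective morphism is injective on sections -/
theorem Hpull_zero_injective {X' : Scheme.{u}} (g : X' ⟶ X) [Surjective g] [PreservesFiniteLimits (EtCoh.pull g)]
    (G : EtCoh.Ab X) : Function.Injective (EtCore.Hpull g G 0) :=
  (injective_iff_map_eq_zero _).2 fun s hs =>
    haveI : ∀ _ : Unit, PreservesFiniteLimits (EtCoh.pull g) := fun _ => inferInstance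
    eq_zero_of_Hpull (fun _ : Unit => g) (fun x => ⟨(), g.surjective x⟩) s fun _ => hs

end Groth.Agent.AcycCover
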