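import Groth.Agent.PopescuLib.FPColim
import Groth.Agent.IndEtLib.Sys
import Groth.Prelude.Def_PBC
import Mathlib.RingTheory.Spectrum.Prime.Chevalley
import Mathlib.RingTheory.Etale.Basic

/-!
# Finitely presented stages factor through quotients of étale algebras
-/

set_option autoImplicit false
set_option linter.style.haveILetI false
universe u

open CategoryTheory Limits

namespace Groth.Agent.AcycCover

variable {R S Ω : Type u} [CommRing R] [CommRing S] [CommRing Ω] [Algebra R S] [Algebra R Ω]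

/-- a finitely presented stage of the residue algebra of an ind-étale algebra factors through a finitely
presented quotient of an étale algebra -/
theorem exists_factor (hS : EtPBC.IsIndEtale R S) (π : S →ₐ[R] Ω) (hπ : Function.Surjective π)
    (M : PopescuLib.FPModel R Ω) :
    ∃ (C : Type u) (_ : CommRing C) (_ : Algebra R C) (_ : Algebra.Etale R C) (J : Ideal C) (_ : J.FG)
      (β : M.Alg →ₐ[R] C ⧸ J) (γ : C ⧸ J →ₐ[R] Ω), γ.comp β = M.toB := by
  classical
  obtain ⟨Sy, hD, ⟨e⟩⟩ := IndEtLib.exists_sys hS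
  choose l hl using fun i : Fin M.n => hπ (M.toB (Ideal.Quotient.mk M.I (MvPolynomial.X i)))
  obtain ⟨j, ψ, hψ⟩ := Sy.exists_lift (MvPolynomial (Fin M.n) R) (e.symm.toAlgHom.comp (MvPolynomial.aeval l))
  haveI := hD j
  let q : Sy.A j →ₐ[R] Ω := π.comp (e.toAlgHom.comp (Sy.ι j))
  have hq : q.comp ψ = M.toB.comp (Ideal.Quotient.mkₐ R M.I) := MvPolynomial.algHom_ext fun i => by
    have h := congrArg (fun x => π (e x)) (AlgHom.congr_fun hψ (MvPolynomial.X i))
    simp only [AlgHom.comp_apply, MvPolynomial.aeval_X, AlgEquiv.toAlgHom_apply,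
      AlgEquiv.apply_symm_apply] at h
    exact h.trans (hl i)
  obtain ⟨t, ht⟩ := M.fg
  let J : Ideal (Sy.A j) := Ideal.span (↑(t.image ψ) : Set (Sy.A j))
  have hle : M.I ≤ RingHom.ker ((Ideal.Quotient.mkₐ R J).comp ψ) := by
    refine ht.ge.trans (Submodule.span_le.2 fun r hr => ?_)
    exact RingHom.mem_ker.2 (Ideal.Quotient.eq_zero_iff_mem.2 (Ideal.subset_span
      (Finset.mem_coe.2 (Finset.mem_image_of_mem ψ (Finset.mem_coe.1 hr)))))
  have hker : J ≤ RingHom.ker q := Ideal.span_le.2 fun a ha => by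
    obtain ⟨r, hr, rfl⟩ := Finset.mem_image.1 (Finset.mem_coe.1 ha)
    refine RingHom.mem_ker.2 ((AlgHom.congr_fun hq r).trans ?_)
    show M.toB (Ideal.Quotient.mk M.I r) = 0
    rw [Ideal.Quotient.eq_zero_iff_mem.2 (ht.le (Submodule.subset_span (Finset.mem_coe.2 hr))), map_zero]
  let γ : Sy.A j ⧸ J →ₐ[R] Ω := Ideal.Quotient.liftₐ J q fun a ha => hker ha
  let β : M.Alg →ₐ[R] Sy.A j ⧸ J := Ideal.Quotient.liftₐ M.I ((Ideal.Quotient.mkₐ R J).comp ψ) fun a ha => hle ha
  refine ⟨Sy.A j, inferInstance, inferInstance, hD j, J, ⟨_, rfl⟩, β, γ, AlgHom.ext fun x => ?_⟩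
  obtain ⟨y, rfl⟩ := Ideal.Quotient.mk_surjective x
  exact AlgHom.congr_fun hq y

/-- the images of such stages are constructible -/
theorem isConstructible_range {C : Type u} [CommRing C] [Algebra R C] [Algebra.Etale R C] {J : Ideal C}
    (hJ : J.FG) : Topology.IsConstructible (Set.range (PrimeSpectrum.comap (algebraMap R (C ⧸ J)))) := by
  haveI := Algebra.FinitePresentation.quotient (R := R) hJ
  exact PrimeSpectrum.isConstructible_range_comap
    (RingHom.finitePresentation_algebraMap.2 inferInstance)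

end Groth.Agent.AcycCover
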