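import Groth.Agent.AcycCover.Detect
import Groth.Agent.EtBC.CompNSurj
import Mathlib.CategoryTheory.Preadditive.Biproducts

/-!
# Classes coming from the base on a jointly surjective family
-/

set_option autoImplicit false
set_option linter.style.haveILetI false
universe u

open CategoryTheory CategoryTheory.Limits AlgebraicGeometry Opposite CategoryTheory.Abelian

namespace Groth.Agent.AcycCover

open Groth.Agent.EtLimit Groth.Agent.EtFound Groth.Agent.EtBC Groth.Agent.EtLC12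

set_option backward.isDefEq.respectTransparency.types false

theorem primesIn_mul {L : Set ℕ} {a b : ℕ} (ha : EtAcyc.PrimesIn L a) (hb : EtAcyc.PrimesIn L b) :
    EtAcyc.PrimesIn L (a * b) :=
  ⟨Nat.mul_pos ha.1 hb.1, fun p hp h => (hp.dvd_mul.1 h).elim (ha.2 p hp) (hb.2 p hp)⟩

theorem primesIn_prod {L : Set ℕ} {ι : Type*} (s : Finset ι) (d : ι → ℕ) (h : ∀ i ∈ s, EtAcyc.PrimesIn L (d i)) :
    EtAcyc.PrimesIn L (∏ i ∈ s, d i) := by
  classical
  induction s using Finset.induction_on with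
  | empty => exact ⟨by simp, fun p hp h => absurd (Nat.dvd_one.1 (by simpa using h)) hp.ne_one⟩
  | insert a s ha ih =>
    rw [Finset.prod_insert ha]
    exact primesIn_mul (h a (Finset.mem_insert_self _ _)) (ih fun i hi => h i (Finset.mem_insert_of_mem hi))

theorem sum_apply {A B : AddCommGrpCat.{u + 1}} {ι : Type*} (s : Finset ι) (f : ι → (A ⟶ B)) (x : A) :
    (∑ i ∈ s, f i) x = ∑ i ∈ s, f i x :=
  map_sum (AddMonoidHom.mk' (fun g : A ⟶ B => g x) fun _ _ => rfl) f s

theorem hmap_sum {X : Scheme.{u}} {F G : EtCoh.Ab X} {ι : Type*} (s : Finset ι) (f : ι → (F ⟶ G)) (n : ℕ)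
    (ξ : EtCoh.H X F n) : hmap (∑ i ∈ s, f i) n ξ = ∑ i ∈ s, hmap (f i) n ξ := by
  classical
  induction s using Finset.induction_on with
  | empty => exact hmap_zero_map n ξ
  | insert a s ha ih =>
    rw [Finset.sum_insert ha, Finset.sum_insert ha, ← ih]
    show Ext.comp ξ (Ext.mk₀ _) (add_zero n) = Ext.comp ξ (Ext.mk₀ _) (add_zero n) + Ext.comp ξ (Ext.mk₀ _) (add_zero n)
    rw [Ext.mk₀_add, Ext.comp_add]

theorem isLTorsion_biproduct {X : Scheme.{u}} {L : Set ℕ} {ι : Type} [Fintype ι] (G : ι → EtCoh.Ab X)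
    (hG : ∀ i, EtAcyc.IsLTorsion L (G i)) : EtAcyc.IsLTorsion L (⨁ G) := by
  refine (S8525.result L _).2 fun Ω _ _ ξ t => ?_
  haveI : (EtCoh.stalk ξ).Additive := Functor.additive_of_preserves_binary_products _
  let a : ∀ i, (EtCoh.stalk ξ).obj (G i) := fun i => (EtCoh.stalk ξ).map (biproduct.π G i) t
  choose d hd h0 using fun i => (S8525.result L (G i)).1 (hG i) Ω ξ (a i)
  refine ⟨∏ i, d i, primesIn_prod _ _ fun i _ => hd i, ?_⟩
  have hid : ∑ i, (EtCoh.stalk ξ).map (biproduct.π G i) ≫ (EtCoh.stalk ξ).map (biproduct.ι G i) = 𝟙 _ := by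
    simp_rw [← Functor.map_comp]
    rw [← Functor.map_sum, biproduct.total, CategoryTheory.Functor.map_id]
  have ht : ∑ i, (EtCoh.stalk ξ).map (biproduct.ι G i) (a i) = t :=
    (sum_apply (A := (EtCoh.stalk ξ).obj (⨁ G)) Finset.univ
      (fun i => (EtCoh.stalk ξ).map (biproduct.π G i) ≫ (EtCoh.stalk ξ).map (biproduct.ι G i)) t).symm.trans
      (ConcreteCategory.congr_hom hid t)
  rw [← ht, Finset.smul_sum]
  refine Finset.sum_eq_zero fun i _ => ?_
  obtain ⟨c, hc⟩ := Finset.dvd_prod_of_mem d (Finset.mem_univ i)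
  rw [hc, mul_comm, mul_smul, ← map_nsmul, h0 i, map_zero, smul_zero]

variable {X Y : Scheme.{u}} (h : Y ⟶ X) {ι : Type} [Fintype ι] {Xb Yb : ι → Scheme.{u}} (p : ∀ i, Xb i ⟶ X)
  (hb : ∀ i, Yb i ⟶ Xb i) (pY : ∀ i, Yb i ⟶ Y) (w : ∀ i, hb i ≫ p i = pY i ≫ h)
  [CompactSpace X] [QuasiSeparatedSpace X] [CompactSpace Y] [QuasiSeparatedSpace Y]
  [∀ i, CompactSpace (Xb i)] [∀ i, QuasiSeparatedSpace (Xb i)]
  [PreservesFiniteLimits (EtCoh.pull h)] [∀ i, PreservesFiniteLimits (EtCoh.pull (hb i))]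
  [∀ i, PreservesFiniteLimits (EtCoh.pull (pY i))]

set_option maxHeartbeats 1000000 in
/-- classes which come from the base on a jointly surjective finite family come from the base -/
theorem mem_range_of_family (hcov : ∀ x : X, ∃ i, x ∈ Set.range (p i).base) (L : Set ℕ) (n : ℕ)
    (hh : EtAcyc.CompN h L n)
    (hbc : ∀ i (Fb : EtCoh.Ab (Xb i)), EtAcyc.IsLTorsion L Fb → ∀ q : ℕ, q ≤ n →
      IsIso (EtBC.bcQ (p i) h (pY i) (hb i) (w i) q Fb))
    (F : EtCoh.Ab X) (hF : EtAcyc.IsLTorsion L F) (ξ : EtCoh.H Y ((EtCoh.pull h).obj F) (n + 1))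
    (a : ∀ i, EtCoh.H (Xb i) (pullObj (p i) F) (n + 1))
    (ha : ∀ i, hVia (hb i) (p i) (pY i ≫ h) (w i) F (n + 1) (a i) =
      hVia (pY i) h (pY i ≫ h) rfl F (n + 1) ξ) :
    ξ ∈ Set.range (EtCore.Hpull h F (n + 1)) := by
  haveI : ∀ i, QuasiCompact (p i) := fun i => inferInstance
  haveI : ∀ i, QuasiSeparated (p i) := fun i => inferInstance
  haveI : ∀ i, EtCoh.BCCont (p i) := fun i => EtCoh.bcCont (p i)
  haveI : (EtCoh.pull h).Additive := Functor.additive_of_preserves_binary_products _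
  choose J j hj hJt hJ using fun i => exists_mono_torsion_acyclic ((EtCoh.pull (p i)).obj F) (isLTorsion_pull (p i) L hF)
  let G : ι → EtCoh.Ab X := fun i => (EtCoh.push (p i)).obj (J i)
  let α : F ⟶ ⨁ G := biproduct.lift fun i => (EtCoh.pullPushAdj (p i)).homEquiv _ _ (j i)
  haveI : Mono α := mono_of_transposes p hcov α J j (fun i => biproduct.π G i) fun i => biproduct.lift_π _ _
  have hGt : ∀ i, EtAcyc.IsLTorsion L (G i) := fun i =>
    isLTorsion_of_iso ((EtCoh.push (p i)).rightDerivedZeroIsoSelf.app (J i)) (S8560.result (p i) L (J i) (hJt i) 0)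
  have hcomp : ∀ i, hmap ((EtCoh.pull h).map α ≫ (EtCoh.pull h).map (biproduct.π G i)) (n + 1) ξ = 0 := fun i => by
    have hbc0 : IsIso (EtCoh.baseChange0 (p i) h (pY i) (hb i) (w i) (J i)) := by
      haveI := hbc i (J i) (hJt i) 0 (Nat.zero_le _)
      haveI : IsIso (EtCoh.baseChange0 (p i) h (pY i) (hb i) (w i) (J i) ≫
          (EtCoh.push (pY i)).toRightDerivedZero.app ((EtCoh.pull (hb i)).obj (J i))) := by
        rw [← EtBC.bcQ_zero_compat]
        infer_instance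
      exact IsIso.of_isIso_comp_right _ ((EtCoh.push (pY i)).toRightDerivedZero.app ((EtCoh.pull (hb i)).obj (J i)))
    have hR' : ∀ k, 1 ≤ k → k ≤ n → IsZero ((EtCoh.Rpush (pY i) k).obj ((EtCoh.pull (hb i)).obj (J i))) :=
      fun k hk hkn => by
        obtain ⟨l, rfl⟩ : ∃ l, k = l + 1 := ⟨k - 1, by omega⟩
        haveI := hbc i (J i) (hJt i) (l + 1) hkn
        exact ((EtCoh.pull h).map_isZero (isZero_rpush_of_qcqsAcyclic (p i) l (J i) (hJ i))).of_iso
          (asIso (EtBC.bcQ (p i) h (pY i) (hb i) (w i) (l + 1) (J i))).symm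
    have hk := kill_class (pY i) h (hb i) (p i) (pY i ≫ h) rfl (w i) F (j i) (𝟙 _)
      ((EtCoh.pullPushAdj (pY i)).counit.app _)
      ((EtCoh.pull h).map ((EtCoh.pullPushAdj (p i)).homEquiv _ _ (j i)) ≫
        EtCoh.baseChange0 (p i) h (pY i) (hb i) (w i) (J i)) ((θPull (hb i) (p i) (pY i ≫ h) (w i)).inv.app F ≫
        (EtCoh.pull (hb i)).map (j i)) (mate_eq h (p i) (hb i) (pY i) (w i) F (J i) (j i))
      ((Iso.hom_inv_id_app_assoc _ _ _).trans (Category.comp_id _).symm) (n + 1)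
      (QcqsAcyclic.subsingleton_H_of_isCechAcyclic n (J i) (hJ i)) (injective_hThen_counit (pY i) _ n hR') ξ (a i)
      (ha i)
    rw [← (EtCoh.pull h).map_comp, biproduct.lift_π]
    refine (hmap_bijective_of_isIso (EtCoh.baseChange0 (p i) h (pY i) (hb i) (w i) (J i)) (n + 1)).1 ?_
    exact ((hmap_comp _ _ _ _).trans hk).trans (map_zero _).symm
  refine mem_range_of_kill h L n hh α hF (isLTorsion_biproduct G hGt) (𝟙 _) ξ ?_
  rw [Category.comp_id]
  have hsum : (EtCoh.pull h).map α = ∑ i, ((EtCoh.pull h).map α ≫ (EtCoh.pull h).map (biproduct.π G i)) ≫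
      (EtCoh.pull h).map (biproduct.ι G i) := by
    simp_rw [Category.assoc, ← Functor.map_comp]
    rw [← Functor.map_sum, ← Preadditive.comp_sum, biproduct.total, Category.comp_id]
  rw [hsum]
  refine Eq.trans ?_ (Finset.sum_eq_zero (s := Finset.univ) fun i _ => ((hmap_comp _ _ _ _).symm.trans
    ((congrArg (hmap ((EtCoh.pull h).map (biproduct.ι G i)) (n + 1)) (hcomp i)).trans (map_zero _))))
  exact hmap_sum _ _ _ ξ

end Groth.Agent.AcycCover
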