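import Groth.Agent.PopescuLib.FPColim
import Groth.Agent.FibreAcyc.Limit
import Groth.Agent.EtFound.PushExact
import Mathlib.CategoryTheory.Presentable.Directed
import Mathlib.CategoryTheory.Comma.Over.Pullback
import Mathlib.CategoryTheory.Limits.Constructions.Over.Connected

/-!
# A relation between classes over a point holds over a finitely presented stage
-/

set_option autoImplicit false
set_option linter.style.haveILetI false
universe u

open CategoryTheory CategoryTheory.Limits AlgebraicGeometry Opposite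

namespace Groth.Agent.AcycCover

open Groth.Agent.EtLimit Groth.Agent.EtFound Groth.Agent.EtBC Groth.Agent.PopescuLib

set_option backward.isDefEq.respectTransparency.types false

variable {R Ω : Type u} [CommRing R] [CommRing Ω] [Algebra R Ω]

/-- the spectrum of a model -/
noncomputable abbrev modelHom (M : FPModel R Ω) : Spec (CommRingCat.of M.Alg) ⟶ Spec (CommRingCat.of R) :=
  Spec.map (CommRingCat.ofHom (algebraMap R M.Alg))

/-- the spectra of the models over the base -/
noncomputable def models {ι : Type u} [Preorder ι] (G : ι ⥤ FPModel R Ω) : ιᵒᵖ ⥤ Over (Spec (CommRingCat.of R)) where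
  obj a := Over.mk (modelHom (G.obj a.unop))
  map {a b} m := Over.homMk (Spec.map (CommRingCat.ofHom (G.map m.unop).1.toRingHom)) (by
    show Spec.map (CommRingCat.ofHom (G.map m.unop).1.toRingHom) ≫ Spec.map _ = Spec.map _
    rw [← Spec.map_comp]
    exact congrArg Spec.map (CommRingCat.hom_ext (RingHom.ext fun r => (G.map m.unop).1.commutes r)))
  map_id a := by
    ext : 1
    show Spec.map (CommRingCat.ofHom (G.map (𝟙 a.unop)).1.toRingHom) = _
    rw [CategoryTheory.Functor.map_id]
    exact Spec.map_id _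
  map_comp {a b c} m m' := by
    ext : 1
    show Spec.map (CommRingCat.ofHom (G.map (m'.unop ≫ m.unop)).1.toRingHom) =
      Spec.map (CommRingCat.ofHom (G.map m.unop).1.toRingHom) ≫ Spec.map (CommRingCat.ofHom (G.map m'.unop).1.toRingHom)
    rw [Functor.map_comp, ← Spec.map_comp]
    rfl

variable (Ω) in
/-- the point -/
noncomputable abbrev pointHom : Spec (CommRingCat.of Ω) ⟶ Spec (CommRingCat.of R) :=
  Spec.map (CommRingCat.ofHom (algebraMap R Ω))

/-- the point over the models -/
noncomputable def modelCone {ι : Type u} [Preorder ι] (G : ι ⥤ FPModel R Ω) : Cone (models G) :=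
  Cone.mk (Over.mk (pointHom Ω))
    { app := fun a => Over.homMk (Spec.map (CommRingCat.ofHom (G.obj a.unop).toB.toRingHom)) (by
        show Spec.map (CommRingCat.ofHom (G.obj a.unop).toB.toRingHom) ≫ Spec.map _ = Spec.map _
        rw [← Spec.map_comp]
        exact congrArg Spec.map (CommRingCat.hom_ext (RingHom.ext fun r => (G.obj a.unop).toB.commutes r)))
      naturality := fun a b m => by
        ext : 1
        show 𝟙 _ ≫ Spec.map (CommRingCat.ofHom (G.obj b.unop).toB.toRingHom) =
          Spec.map (CommRingCat.ofHom (G.obj a.unop).toB.toRingHom) ≫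
            Spec.map (CommRingCat.ofHom (G.map m.unop).1.toRingHom)
        rw [Category.id_comp, ← Spec.map_comp]
        exact congrArg Spec.map (CommRingCat.hom_ext (RingHom.ext fun r =>
          (AlgHom.congr_fun (G.map m.unop).2 r).symm)) }

theorem nonempty_isLimit_modelCone {ι : Type u} [Preorder ι] [IsDirected ι (· ≤ ·)] [Nonempty ι]
    (G : ι ⥤ FPModel R Ω) [G.Final] : Nonempty (IsLimit (modelCone G)) := by
  haveI : IsFiltered ι := isFiltered_of_directed_le_nonempty ι
  haveI : IsConnected ι := IsFiltered.isConnected _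
  haveI : IsConnected (FPModel R Ω) := IsFiltered.isConnected _
  have hc : IsColimit ((Under.forget (CommRingCat.of R)).mapCocone (fpCocone R Ω)) :=
    isColimitOfPreserves _ (fpIsColimit R Ω)
  have hl := isLimitOfPreserves Scheme.Spec ((Functor.Final.isColimitWhiskerEquiv G _).symm hc).op
  exact ⟨isLimitOfReflects (Over.forget _) hl⟩

variable {X : Scheme.{u}} (g : X ⟶ Spec (CommRingCat.of R)) [QuasiCompact g] [QuasiSeparated g]

set_option maxHeartbeats 1000000 in
/-- classes agreeing at the point agree at some stage -/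
theorem exists_stage (F : EtCoh.Ab (Spec (CommRingCat.of R))) (n : ℕ) (ξ : EtCoh.H X (pullObj g F) n)
    [PreservesFiniteLimits (EtCoh.pull (pullback.snd (pointHom Ω) g))]
    [PreservesFiniteLimits (EtCoh.pull (pullback.fst (pointHom Ω) g))]
    (b : EtCoh.H (Spec (CommRingCat.of Ω)) (pullObj (pointHom Ω) F) n)
    (h : hVia (pullback.snd (pointHom Ω) g) g (pullback.fst (pointHom Ω) g ≫ pointHom Ω)
        pullback.condition.symm F n ξ =
      hVia (pullback.fst (pointHom Ω) g) (pointHom Ω) _ rfl F n b) :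
    ∃ (M : FPModel R Ω) (a : EtCoh.H (Spec (CommRingCat.of M.Alg)) (pullObj (modelHom M) F) n),
      (b = 0 → a = 0) ∧ ∀ [PreservesFiniteLimits (EtCoh.pull (pullback.snd (modelHom M) g))]
        [PreservesFiniteLimits (EtCoh.pull (pullback.fst (modelHom M) g))],
        hVia (pullback.snd (modelHom M) g) g (pullback.fst (modelHom M) g ≫ modelHom M)
            pullback.condition.symm F n ξ =
          hVia (pullback.fst (modelHom M) g) (modelHom M) _ rfl F n a := by
  obtain ⟨ι, _, _, _, G, _⟩ := IsFiltered.exists_directed (FPModel R Ω)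
  obtain ⟨hcone⟩ := nonempty_isLimit_modelCone G
  haveI : IsFiltered ι := isFiltered_of_directed_le_nonempty ι
  haveI : IsConnected ι := IsFiltered.isConnected _
  haveI : PreservesLimitsOfSize.{u, u} (Over.pullback g) := (Over.mapPullbackAdj g).rightAdjoint_preservesLimits
  let T := Spec (CommRingCat.of R)
  let Xs := models G ⋙ Over.pullback g ⋙ Over.forget X
  let Ys := models G ⋙ Over.forget T
  let cX : Cone Xs := (Over.pullback g ⋙ Over.forget X).mapCone (modelCone G)
  let cY : Cone Ys := (Over.forget T).mapCone (modelCone G)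
  have hcX : IsLimit cX := isLimitOfPreserves (Over.pullback g ⋙ Over.forget X) hcone
  have hcY : IsLimit cY := isLimitOfPreserves (Over.forget T) hcone
  have hYaff : ∀ ⦃a b : ιᵒᵖ⦄ (m : a ⟶ b), IsAffineHom (Ys.map m) := fun a b m =>
    isAffineHom_of_isAffine (Spec.map (CommRingCat.ofHom (G.map m.unop).1.toRingHom))
  have hXaff : ∀ ⦃a b : ιᵒᵖ⦄ (m : a ⟶ b), IsAffineHom (Xs.map m) := fun a b m => by
    refine MorphismProperty.of_isPullback (P := @IsAffineHom) (IsPullback.of_bot (h₃₁ := g)
      (v₂₂ := ((models G).obj b).hom) (v₂₁ := pullback.snd ((models G).obj b).hom g) ?_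
      (pullback.lift_fst _ _ _).symm (IsPullback.of_hasPullback _ g)) (hYaff m)
    show IsPullback (pullback.fst ((models G).obj a).hom g)
      ((Xs.map m : pullback ((models G).obj a).hom g ⟶ pullback ((models G).obj b).hom g) ≫ pullback.snd _ g)
      (((models G).map m).left ≫ ((models G).obj b).hom) g
    rw [Over.w ((models G).map m)]
    erw [pullback.lift_snd]
    exact IsPullback.of_hasPullback _ _
  have qY : ∀ a, CompactSpace ↥(Ys.obj a) := fun a =>
    inferInstanceAs (CompactSpace ↥(Spec (CommRingCat.of (G.obj a.unop).Alg)))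
  have sY : ∀ a, QuasiSeparatedSpace ↥(Ys.obj a) := fun a =>
    inferInstanceAs (QuasiSeparatedSpace ↥(Spec (CommRingCat.of (G.obj a.unop).Alg)))
  have qX : ∀ a, CompactSpace ↥(Xs.obj a) := fun a => by
    haveI := qY a
    haveI : QuasiCompact (pullback.fst ((models G).obj a).hom g) := MorphismProperty.pullback_fst _ _ ‹_›
    exact @QuasiCompact.compactSpace_of_compactSpace _ _ (pullback.fst ((models G).obj a).hom g) ‹_› (qY a)
  have sX : ∀ a, QuasiSeparatedSpace ↥(Xs.obj a) := fun a => by
    haveI : QuasiSeparated (pullback.fst ((models G).obj a).hom g) := MorphismProperty.pullback_fst _ _ ‹_›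
    exact @quasiSeparatedSpace_of_quasiSeparated _ _ (pullback.fst ((models G).obj a).hom g) (sY a) ‹_›
  haveI : ∀ a, PreservesFiniteLimits (EtCoh.pull (cX.π.app a)) := fun a => pull_preservesFiniteLimits _
  haveI : ∀ a, PreservesFiniteLimits (EtCoh.pull (cY.π.app a)) := fun a => pull_preservesFiniteLimits _
  haveI : ∀ ⦃a b : ιᵒᵖ⦄ (m : a ⟶ b), PreservesFiniteLimits (EtCoh.pull (Xs.map m)) :=
    fun _ _ _ => pull_preservesFiniteLimits _
  haveI : ∀ ⦃a b : ιᵒᵖ⦄ (m : a ⟶ b), PreservesFiniteLimits (EtCoh.pull (Ys.map m)) :=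
    fun _ _ _ => pull_preservesFiniteLimits _
  let M : ∀ _ : ι, FPModel R Ω := fun i => G.obj i
  let sn : ∀ i : ι, Xs.obj (op i) ⟶ X := fun i => pullback.snd (modelHom (M i)) g
  let fs : ∀ i : ι, Xs.obj (op i) ⟶ Ys.obj (op i) :=
    fun i => pullback.fst (modelHom (M i)) g
  haveI : ∀ i, PreservesFiniteLimits (EtCoh.pull (sn i)) := fun i => pull_preservesFiniteLimits _
  haveI : ∀ i, PreservesFiniteLimits (EtCoh.pull (fs i)) := fun i => pull_preservesFiniteLimits _
  let eX : ∀ i : ι, Xs.obj (op i) ⟶ T := fun i => fs i ≫ modelHom (M i)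
  have heY : ∀ {i j : ι} (m : i ≤ j), tr Ys m ≫ modelHom (M i) = modelHom (M j) :=
    fun {i j} m => Over.w ((models G).map (homOfLE m).op)
  have hfs : ∀ {i j : ι} (m : i ≤ j), tr Xs m ≫ fs i = fs j ≫ tr Ys m := fun {i j} m => pullback.lift_fst _ _ _
  have hsn : ∀ {i j : ι} (m : i ≤ j), tr Xs m ≫ sn i = sn j := fun {i j} m => pullback.lift_snd _ _ _
  have heX : ∀ {i j : ι} (m : i ≤ j), tr Xs m ≫ eX i = eX j := fun {i j} m => by
    show tr Xs m ≫ fs i ≫ modelHom (M i) = fs j ≫ modelHom (M j)
    exact (Category.assoc _ _ _).symm.trans ((congrArg (· ≫ modelHom (M i)) (hfs m)).trans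
      ((Category.assoc _ _ _).trans (congrArg (fs j ≫ ·) (heY m))))
  let z := pointHom (R := R) Ω
  let fz : cX.pt ⟶ cY.pt := pullback.fst z g
  let sz : cX.pt ⟶ X := pullback.snd z g
  haveI : PreservesFiniteLimits (EtCoh.pull fz) := pull_preservesFiniteLimits _
  haveI : PreservesFiniteLimits (EtCoh.pull sz) := pull_preservesFiniteLimits _
  let e₀ : cX.pt ⟶ T := fz ≫ z
  have hzi : ∀ i : ι, cY.π.app (op i) ≫ modelHom (M i) = z := fun i => Over.w ((modelCone G).π.app (op i))
  have hfz : ∀ i : ι, cX.π.app (op i) ≫ fs i = fz ≫ cY.π.app (op i) := fun i => pullback.lift_fst _ _ _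
  have hsz : ∀ i : ι, cX.π.app (op i) ≫ sn i = sz := fun i => pullback.lift_snd _ _ _
  have he₀ : ∀ i : ι, cX.π.app (op i) ≫ eX i = e₀ := fun i => by
    show cX.π.app (op i) ≫ fs i ≫ modelHom (M i) = fz ≫ z
    exact (Category.assoc _ _ _).symm.trans ((congrArg (· ≫ modelHom (M i)) (hfz i)).trans
      ((Category.assoc _ _ _).trans (congrArg (fz ≫ ·) (hzi i))))
  have HY := genSys_comparison' Ys hYaff cY hcY qY sY (fun i => modelHom (M i)) heY F z hzi n
  have HX := genSys_comparison' Xs hXaff cX hcX qX sX eX heX F e₀ he₀ n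
  obtain ⟨j, a, ha, hzero⟩ : ∃ (j : ι) (a : EtCoh.H (Ys.obj (op j)) (pullObj (modelHom (M j)) F) n),
      hVia (cY.π.app (op j)) (modelHom (M j)) z (hzi j) F n a = b ∧ (b = 0 → a = 0) := by
    by_cases hb : b = 0
    · exact ⟨Classical.arbitrary ι, 0, (map_zero _).trans hb.symm, fun _ => rfl⟩
    · obtain ⟨j, a, ha⟩ := HY.1 b
      exact ⟨j, a, ha, fun h' => absurd h' hb⟩
  let A : ∀ i : ι, EtCoh.H X (pullObj g F) n →+ EtCoh.H (Xs.obj (op i)) (pullObj (eX i) F) n :=
    fun i => hVia (sn i) g (eX i) pullback.condition.symm F n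
  let B : ∀ i : ι, EtCoh.H (Ys.obj (op i)) (pullObj (modelHom (M i)) F) n →+
      EtCoh.H (Xs.obj (op i)) (pullObj (eX i) F) n :=
    fun i => hVia (fs i) (modelHom (M i)) (eX i) rfl F n
  have hd : hVia (cX.π.app (op j)) (eX j) e₀ (he₀ j) F n (A j ξ - B j a) = 0 := by
    rw [map_sub, sub_eq_zero]
    refine (hVia_comp (U := cX.pt) (cX.π.app (op j)) (sn j) g sz (eX j) e₀ (hsz j) pullback.condition.symm (he₀ j)
      pullback.condition.symm F n ξ).trans ?_
    refine Eq.trans ?_ (FibreAcyc.hVia_square (A := cX.pt) (C := cY.pt) (cX.π.app (op j)) (fs j) fz (cY.π.app (op j)) (hfz j) (modelHom (M j))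
      (eX j) z e₀ rfl (hzi j) (he₀ j) rfl F n a).symm
    rw [ha]
    exact h
  obtain ⟨k, m, hk⟩ := HX.2 j (A j ξ - B j a) hd
  have hk' := FibreAcyc.hVia_eq_zero_of_diesAt (tr Xs m) (eX j) (eX k) (heX m) F n _ hk
  rw [map_sub, sub_eq_zero] at hk'
  refine ⟨M k, hVia (tr Ys m) (modelHom (M j)) (modelHom (M k)) (heY m) F n a,
    fun hb => (congrArg (hVia (tr Ys m) (modelHom (M j)) (modelHom (M k)) (heY m) F n) (hzero hb)).trans (map_zero _),
    fun {_ _} => ?_⟩
  refine ((hVia_comp (tr Xs m) (sn j) g (sn k) (eX j) (eX k) (hsn m) pullback.condition.symm (heX m)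
      pullback.condition.symm F n ξ).symm.trans hk').trans ?_
  exact FibreAcyc.hVia_square (tr Xs m) (fs j) (fs k) (tr Ys m) (hfs m) (modelHom (M j)) (eX j) (modelHom (M k)) (eX k) rfl
    (heY m) (heX m) rfl F n a

end Groth.Agent.AcycCover
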