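import Groth.Agent.AcycCover.Bc
import Groth.Agent.AcycCover.Family
import Groth.Agent.AcycCover.Stage
import Groth.Agent.AcycCover.Factor
import Groth.Agent.EtFound.Crit
import Groth.Agent.IndZarLib.Factor
import Groth.Agent.IndEtLib.Localization
import Groth.Agent.S0734
import Groth.Agent.S12237

/-!
# Classes coming from the base on all geometric fibres come from the base
-/

set_option autoImplicit false
set_option linter.style.haveILetI false
universe u

open CategoryTheory CategoryTheory.Limits AlgebraicGeometry Opposite IsLocalRing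

namespace Groth.Agent.AcycCover

open Groth.Agent.EtLimit Groth.Agent.EtFound Groth.Agent.EtBC

set_option backward.isDefEq.respectTransparency.types false

/-- the residue point of a strict localization -/
noncomputable abbrev resPoint (T : Scheme.{u}) (y : T) (S : Type u) [CommRing S] [IsLocalRing S]
    [Algebra (T.presheaf.stalk y) S] : Spec (CommRingCat.of (ResidueField S)) ⟶ T :=
  resPt S (RingHom.id _) ≫ Hens2.specOf T y S

/-- a class of degree `n` is induced from the base on a geometric fibre -/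
def FibRange {X T : Scheme.{u}} (g : X ⟶ T) (F : EtCoh.Ab T) (n : ℕ) (ξ : EtCoh.H X (pullObj g F) n)
    {Ω : Type u} [CommRing Ω] (z : Spec (CommRingCat.of Ω) ⟶ T) : Prop :=
  ∀ [PreservesFiniteLimits (EtCoh.pull (pullback.snd z g))] [PreservesFiniteLimits (EtCoh.pull (pullback.fst z g))],
    ∃ b : EtCoh.H (Spec (CommRingCat.of Ω)) (pullObj z F) n,
      hVia (pullback.snd z g) g (pullback.fst z g ≫ z) pullback.condition.symm F n ξ =
        hVia (pullback.fst z g) z _ rfl F n b

/-- equal classes stay equal when the structure map is rewritten -/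
theorem hVia_eq_congr {A B B' Z : Scheme.{u}} (a : A ⟶ B) (t : B ⟶ Z) (a' : A ⟶ B') (t' : B' ⟶ Z) (c c' : A ⟶ Z)
    (hc : c = c') (e : a ≫ t = c) (e' : a' ≫ t' = c) (d : a ≫ t = c') (d' : a' ≫ t' = c')
    [PreservesFiniteLimits (EtCoh.pull a)] [PreservesFiniteLimits (EtCoh.pull a')] (F : EtCoh.Ab Z) (n : ℕ)
    (x : EtCoh.H B (pullObj t F) n) (x' : EtCoh.H B' (pullObj t' F) n)
    (h : hVia a t c e F n x = hVia a' t' c e' F n x') : hVia a t c' d F n x = hVia a' t' c' d' F n x' := by
  subst hc
  exact h

theorem isIso_bcQ_congr {Xb Yb T X : Scheme.{u}} (p p' : Xb ⟶ T) (e : p = p') (g : X ⟶ T) (pY : Yb ⟶ X)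
    (hb : Yb ⟶ Xb) (w : hb ≫ p = pY ≫ g) (w' : hb ≫ p' = pY ≫ g) [PreservesFiniteLimits (EtCoh.pull hb)]
    (F : EtCoh.Ab Xb) (j : ℕ) (h : IsIso (EtBC.bcQ p g pY hb w j F)) : IsIso (EtBC.bcQ p' g pY hb w' j F) := by
  subst e
  exact h

variable {R : Type u} [CommRing R]

/-- the ring map of a residue point, and the ind-étale algebra it factors through -/
theorem exists_resPoint_alg (y : Spec (CommRingCat.of R)) (S : Type u) [CommRing S] [IsLocalRing S]
    [Algebra ((Spec (CommRingCat.of R)).presheaf.stalk y) S]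
    [IsLocalHom (algebraMap ((Spec (CommRingCat.of R)).presheaf.stalk y) S)]
    [Hensel.IsStrictHenselization ((Spec (CommRingCat.of R)).presheaf.stalk y) S] :
    ∃ (_ : Algebra R S), EtPBC.IsIndEtale R S ∧ Spec.map (CommRingCat.ofHom ((residue S).comp (algebraMap R S))) =
      resPoint (Spec (CommRingCat.of R)) y S := by
  let O := (Spec (CommRingCat.of R)).presheaf.stalk y
  letI aO : Algebra R O := StructureSheaf.stalkAlgebra R y
  haveI : IsLocalization.AtPrime O y.asIdeal := StructureSheaf.IsLocalization.to_stalk R y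
  letI aS : Algebra R S := ((algebraMap O S).comp (algebraMap R O)).toAlgebra
  haveI : IsScalarTower R O S := IsScalarTower.of_algebraMap_eq fun _ => rfl
  refine ⟨aS, S0734.result R O S (IndZarLib.isIndEtale_of_isIndZariski
    (IndEtLib.isIndZariski_localization y.asIdeal.primeCompl O)) (S12237.result O S), ?_⟩
  have hf : (Spec (CommRingCat.of R)).fromSpecStalk y = Spec.map (CommRingCat.ofHom (algebraMap R O)) :=
    Spec.fromSpecStalk_eq' _ y
  have hcomp : CommRingCat.ofHom ((residue S).comp (algebraMap R S)) =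
      CommRingCat.ofHom (algebraMap R O) ≫ CommRingCat.ofHom (algebraMap O S) ≫
        CommRingCat.ofHom ((RingHom.id (ResidueField S)).comp (residue S)) := rfl
  rw [hcomp, Spec.map_comp, Spec.map_comp, Category.assoc, ← hf]

variable {X : Scheme.{u}} (g : X ⟶ Spec (CommRingCat.of R)) [QuasiCompact g] [QuasiSeparated g]

set_option maxHeartbeats 1000000 in
/-- the relation with the base spreads out to a constructible neighbourhood -/
theorem exists_nhd (F : EtCoh.Ab (Spec (CommRingCat.of R))) (n : ℕ) (ξ : EtCoh.H X (pullObj g F) n)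
    (y : Spec (CommRingCat.of R)) (S : Type u) [CommRing S] [IsLocalRing S]
    [Algebra ((Spec (CommRingCat.of R)).presheaf.stalk y) S]
    [IsLocalHom (algebraMap ((Spec (CommRingCat.of R)).presheaf.stalk y) S)]
    [Hensel.IsStrictHenselization ((Spec (CommRingCat.of R)).presheaf.stalk y) S]
    (hfib : FibRange g F n ξ (resPoint (Spec (CommRingCat.of R)) y S)) :
    ∃ (C : Type u) (_ : CommRing C) (_ : Algebra R C) (_ : Algebra.Etale R C) (J : Ideal C) (_ : J.FG),
      y ∈ Set.range (PrimeSpectrum.comap (algebraMap R (C ⧸ J))) ∧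
      FibRange g F n ξ (Spec.map (CommRingCat.ofHom (algebraMap R (C ⧸ J)))) := by
  obtain ⟨aS, hS, hz⟩ := exists_resPoint_alg y S
  let Ω := ResidueField S
  let π : S →ₐ[R] Ω := IsScalarTower.toAlgHom R S Ω
  have hzΩ : pointHom (R := R) Ω = resPoint (Spec (CommRingCat.of R)) y S := by
    rw [← hz]
    rfl
  haveI : PreservesFiniteLimits (EtCoh.pull (pullback.snd (pointHom (R := R) Ω) g)) := pull_preservesFiniteLimits _
  haveI : PreservesFiniteLimits (EtCoh.pull (pullback.fst (pointHom (R := R) Ω) g)) := pull_preservesFiniteLimits _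
  rw [← hzΩ] at hfib
  obtain ⟨b, hb⟩ := @hfib _ _
  obtain ⟨M, a, -, ha⟩ := exists_stage g F n ξ b hb
  obtain ⟨C, _, _, _, J, hJ, β, γ, hγ⟩ := exists_factor hS π residue_surjective M
  refine ⟨C, inferInstance, inferInstance, inferInstance, J, hJ, ?_, ?_⟩
  · refine ⟨(Spec.map (CommRingCat.ofHom γ.toRingHom)).base (closedPoint Ω), ?_⟩
    have hy : (resPoint (Spec (CommRingCat.of R)) y S).base (closedPoint Ω) = y := by
      show (resPt S (RingHom.id _) ≫ Hens2.specOf _ y S).base _ = y
      refine (Scheme.Hom.comp_apply _ _ _).trans ?_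
      erw [resPt_base]
      exact UnitStalk.specMap_closed y (algebraMap _ S)
    refine Eq.trans ?_ hy
    rw [← hzΩ]
    refine Eq.trans ?_ (congrArg (fun k : Spec (CommRingCat.of Ω) ⟶ Spec (CommRingCat.of R) => k.base (closedPoint Ω))
      (show Spec.map (CommRingCat.ofHom γ.toRingHom) ≫ Spec.map (CommRingCat.ofHom (algebraMap R (C ⧸ J))) =
          pointHom (R := R) Ω by
        rw [← Spec.map_comp]
        exact congrArg Spec.map (CommRingCat.hom_ext (RingHom.ext fun r => γ.commutes r))))
    show (Spec.map (CommRingCat.ofHom (algebraMap R (C ⧸ J)))).base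
        ((Spec.map (CommRingCat.ofHom γ.toRingHom)).base (closedPoint Ω)) = _
    exact (Scheme.Hom.comp_apply _ _ _).symm
  · intro _ _
    let zM := modelHom M
    let zC := Spec.map (CommRingCat.ofHom (algebraMap R (C ⧸ J)))
    let k := Spec.map (CommRingCat.ofHom β.toRingHom)
    have hk : k ≫ zM = zC := by
      show Spec.map _ ≫ Spec.map _ = Spec.map _
      rw [← Spec.map_comp]
      exact congrArg Spec.map (CommRingCat.hom_ext (RingHom.ext fun r => β.commutes r))
    let K : pullback zC g ⟶ pullback zM g := pullback.lift (pullback.fst zC g ≫ k) (pullback.snd zC g)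
      (by rw [Category.assoc, hk, pullback.condition])
    have hKf : K ≫ pullback.fst zM g = pullback.fst zC g ≫ k := pullback.lift_fst _ _ _
    have hKs : K ≫ pullback.snd zM g = pullback.snd zC g := pullback.lift_snd _ _ _
    haveI : PreservesFiniteLimits (EtCoh.pull K) := pull_preservesFiniteLimits _
    haveI : PreservesFiniteLimits (EtCoh.pull k) := pull_preservesFiniteLimits _
    haveI : PreservesFiniteLimits (EtCoh.pull (pullback.snd zM g)) := pull_preservesFiniteLimits _
    haveI : PreservesFiniteLimits (EtCoh.pull (pullback.fst zM g)) := pull_preservesFiniteLimits _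
    have hKe : K ≫ pullback.fst zM g ≫ zM = pullback.fst zC g ≫ zC := by
      rw [← Category.assoc, hKf, Category.assoc, hk]
    refine ⟨hVia k zM zC hk F n a, ?_⟩
    refine (hVia_comp K (pullback.snd zM g) g (pullback.snd zC g) (pullback.fst zM g ≫ zM) (pullback.fst zC g ≫ zC)
      hKs pullback.condition.symm hKe pullback.condition.symm F n ξ).symm.trans ?_
    refine (congrArg (hVia K (pullback.fst zM g ≫ zM) (pullback.fst zC g ≫ zC) hKe F n) ha).trans ?_
    exact FibreAcyc.hVia_square K (pullback.fst zM g) (pullback.fst zC g) k hKf zM (pullback.fst zM g ≫ zM) zC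
      (pullback.fst zC g ≫ zC) rfl hk hKe rfl F n a

set_option maxHeartbeats 1000000 in
/-- classes coming from the base on all geometric fibres come from the base -/
theorem mem_range_of_fibres (L : Set ℕ) (n : ℕ) (hh : EtAcyc.CompN g L n) (hloc : EtAcyc.IsLocAcyclicN g L n)
    [PreservesFiniteLimits (EtCoh.pull g)] (F : EtCoh.Ab (Spec (CommRingCat.of R))) (hF : EtAcyc.IsLTorsion L F)
    (ξ : EtCoh.H X ((EtCoh.pull g).obj F) (n + 1))
    (hfib : ∀ (y : Spec (CommRingCat.of R)) (S : Type u) [CommRing S] [IsLocalRing S]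
      [Algebra ((Spec (CommRingCat.of R)).presheaf.stalk y) S]
      [IsLocalHom (algebraMap ((Spec (CommRingCat.of R)).presheaf.stalk y) S)]
      [Hensel.IsStrictHenselization ((Spec (CommRingCat.of R)).presheaf.stalk y) S],
      FibRange g F (n + 1) ξ (resPoint (Spec (CommRingCat.of R)) y S)) :
    ξ ∈ Set.range (EtCore.Hpull g F (n + 1)) := by
  classical
  have hnhd : ∀ y : Spec (CommRingCat.of R), ∃ (C : Type u) (_ : CommRing C) (_ : Algebra R C)
      (_ : Algebra.Etale R C) (J : Ideal C) (_ : J.FG),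
      y ∈ Set.range (PrimeSpectrum.comap (algebraMap R (C ⧸ J))) ∧
      FibRange g F (n + 1) ξ (Spec.map (CommRingCat.ofHom (algebraMap R (C ⧸ J)))) := fun y => by
    obtain ⟨S, _, _, _, _, _⟩ := S0537.result ((Spec (CommRingCat.of R)).presheaf.stalk y)
    exact exists_nhd g F (n + 1) ξ y S (hfib y S)
  choose C i1 i2 i3 J hJ hy hr using hnhd
  obtain ⟨t, ht⟩ := EtFound.exists_finite_cover (S := PrimeSpectrum R)
    (fun y : PrimeSpectrum R => Set.range (PrimeSpectrum.comap (algebraMap R (C y ⧸ J y))))
    (fun y => isConstructible_range (hJ y)) fun x => ⟨x, hy x⟩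
  let e := t.equivFin
  let c : Fin t.card → Spec (CommRingCat.of R) := fun k => (e.symm k).1
  let iC : ∀ k, Spec (CommRingCat.of (C (c k) ⧸ J (c k))) ⟶ Spec (CommRingCat.of (C (c k))) := fun k =>
    Spec.map (CommRingCat.ofHom (Ideal.Quotient.mk (J (c k))))
  let qC : ∀ k, Spec (CommRingCat.of (C (c k))) ⟶ Spec (CommRingCat.of R) := fun k =>
    Spec.map (CommRingCat.ofHom (algebraMap R (C (c k))))
  let z : ∀ k, Spec (CommRingCat.of (C (c k) ⧸ J (c k))) ⟶ Spec (CommRingCat.of R) := fun k =>
    Spec.map (CommRingCat.ofHom (algebraMap R (C (c k) ⧸ J (c k))))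
  have hz : ∀ k, iC k ≫ qC k = z k := fun k => by
    show Spec.map _ ≫ Spec.map _ = Spec.map _
    rw [← Spec.map_comp]
    rfl
  haveI : ∀ k, IsClosedImmersion (iC k) := fun k =>
    IsClosedImmersion.spec_of_surjective _ Ideal.Quotient.mk_surjective
  haveI : ∀ k, AlgebraicGeometry.Etale (qC k) := fun k =>
    (HasRingHomProperty.Spec_iff (P := @AlgebraicGeometry.Etale)).2 (RingHom.etale_algebraMap.2 (i3 (c k)))
  haveI : CompactSpace X := QuasiCompact.compactSpace_of_compactSpace g
  haveI : QuasiSeparatedSpace X := quasiSeparatedSpace_of_quasiSeparated g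
  haveI : ∀ k, PreservesFiniteLimits (EtCoh.pull (pullback.fst (z k) g)) := fun k => pull_preservesFiniteLimits _
  haveI : ∀ k, PreservesFiniteLimits (EtCoh.pull (pullback.snd (z k) g)) := fun k => pull_preservesFiniteLimits _
  have sq : ∀ k, IsPullback (pullback.fst (z k) g) (pullback.snd (z k) g) (iC k ≫ qC k) g := fun k => by
    rw [hz]
    exact IsPullback.of_hasPullback _ _
  choose a ha using fun k => @hr (c k) _ _
  refine mem_range_of_family g z (fun k => pullback.fst (z k) g) (fun k => pullback.snd (z k) g)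
    (fun k => pullback.condition) (fun x => ?_) L n hh (fun k Fb hFb q hq => ?_) F hF ξ a fun k => ?_
  · obtain ⟨y, hyt, hxy⟩ := ht x
    refine ⟨e ⟨y, hyt⟩, ?_⟩
    have hc : c (e ⟨y, hyt⟩) = y := congrArg Subtype.val (e.symm_apply_apply ⟨y, hyt⟩)
    show x ∈ Set.range (PrimeSpectrum.comap (algebraMap R (C (c (e ⟨y, hyt⟩)) ⧸ J (c (e ⟨y, hyt⟩)))))
    rw [hc]
    exact hxy
  · exact isIso_bcQ_congr (iC k ≫ qC k) (z k) (hz k) g _ _ (sq k).w _ Fb q
      (isIso_bcQ_factor g L n hloc (qC k) (iC k) (sq k) Fb hFb q hq)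
  · exact hVia_eq_congr (pullback.fst (z k) g) (z k) (pullback.snd (z k) g) g _ _ pullback.condition rfl
      pullback.condition.symm pullback.condition rfl F (n + 1) (a k) ξ (ha k).symm

end Groth.Agent.AcycCover
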