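import Groth.Agent.AcycCover.ConstConn
import Groth.Agent.AcycCover.Detect
import Groth.Agent.AcycCover.Main
import Groth.Agent.FibreAcyc.Field
import Groth.Agent.IndEtStrict.Stalk
import Groth.Prelude.Def_EtAcyc

/-!
# The pullback to acyclic geometric fibres
-/

set_option autoImplicit false
set_option linter.style.haveILetI false
universe u

open CategoryTheory CategoryTheory.Limits AlgebraicGeometry Opposite IsLocalRing

namespace Groth.Agent.AcycCover

open Groth.Agent.EtLimit Groth.Agent.EtFound Groth.Agent.EtBC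

set_option backward.isDefEq.respectTransparency.types false

variable {X : Scheme.{u}} {k : Type u} [Field k] [IsSepClosed k] (h : X ⟶ Spec (CommRingCat.of k))
  [PreservesFiniteLimits (EtCoh.pull h)]

/-- sections of a finite constant sheaf on a nonempty connected scheme over a separably closed field -/
theorem const_bijective [Nonempty X] [ConnectedSpace X] (M : Type) [AddCommGroup M] [Finite M] :
    Function.Bijective (EtCore.Hpull h (EtCoh.const (Spec (CommRingCat.of k)) M) 0) := by
  haveI : Surjective h := ⟨fun y => ⟨Classical.arbitrary X, Subsingleton.elim (α := PrimeSpectrum k) _ _⟩⟩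
  have hinj := Hpull_zero_injective h (EtCoh.const (Spec (CommRingCat.of k)) M)
  let M' : AddCommGrpCat.{u + 1} := AddCommGrpCat.of (ULift.{u + 1} M)
  haveI : Finite M' := inferInstanceAs (Finite (ULift.{u + 1} M))
  let e1 := Equiv.ofBijective _ (⟨FibreAcyc.constSec_injective M' (EtCoh.top (Spec (CommRingCat.of k))) ⟨(default : Spec (CommRingCat.of k))⟩,
    EtTrace.toSheafify_top_surjective (Spec (CommRingCat.of k)) M'⟩ : Function.Bijective
      (FibreAcyc.constSec M' (EtCoh.top (Spec (CommRingCat.of k)))))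
  let e2 := Equiv.ofBijective _ (⟨FibreAcyc.constSec_injective M' (EtCoh.top X) ‹Nonempty X›,
    constSec_surjective M'⟩ : Function.Bijective (FibreAcyc.constSec M' (EtCoh.top X)))
  let E1 : M' ≃ EtCoh.H (Spec (CommRingCat.of k)) (EtCoh.const (Spec (CommRingCat.of k)) M) 0 :=
    e1.trans (Equiv.ofBijective _ (hSec_bijective (EtCoh.const (Spec (CommRingCat.of k)) M))).symm
  let E2 : M' ≃ EtCoh.H X ((EtCoh.pull h).obj (EtCoh.const (Spec (CommRingCat.of k)) M)) 0 :=
    (e2.trans (Equiv.ofBijective _ (hSec_bijective (EtCoh.const X M))).symm).trans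
      (Equiv.ofBijective _ (hmap_bijective_of_isIso (EtCore.pullConst h M).hom 0)).symm
  have := Finite.injective_iff_surjective.1
    (show Function.Injective (E2.symm ∘ EtCore.Hpull h (EtCoh.const (Spec (CommRingCat.of k)) M) 0 ∘ E1) from
      E2.symm.injective.comp (hinj.comp E1.injective))
  refine ⟨hinj, fun z => ?_⟩
  obtain ⟨m, hm⟩ := this (E2.symm z)
  exact ⟨E1 m, E2.symm.injective hm⟩

/-- all torsion sheaves are acyclic on an acyclic fibre -/
theorem goodCoeff_of_isAcyclicScheme [CompactSpace X] [QuasiSeparatedSpace X] (L : Set ℕ) {n : ℕ}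
    (hX : EtAcyc.IsAcyclicSchemeN L n X) (G : EtCoh.Ab (Spec (CommRingCat.of k))) (hG : EtAcyc.IsLTorsion L G) :
    FibreAcyc.GoodCoeff h n G := by
  haveI := hX.1
  haveI := hX.2.1
  refine FibreAcyc.goodCoeff_field h L (fun ℓ hℓ hℓL => ?_) G hG
  haveI : Fact ℓ.Prime := ⟨hℓ⟩
  refine ⟨const_bijective h (ZMod ℓ), fun q h1 h2 => ?_⟩
  haveI := hX.2.2 ℓ hℓ hℓL q h1 h2
  exact (hmap_bijective_of_isIso (EtCore.pullConst h (ZMod ℓ)).hom q).1.subsingleton

omit [PreservesFiniteLimits (EtCoh.pull h)] in
theorem isAcyclicSchemeN_of_iso {L : Set ℕ} {n : ℕ} {X X' : Scheme.{u}} (e : X' ≅ X)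
    (hX : EtAcyc.IsAcyclicSchemeN L n X) : EtAcyc.IsAcyclicSchemeN L n X' := by
  haveI := hX.1
  haveI := hX.2.1
  let f := Scheme.homeoOfIso e
  refine ⟨⟨f.symm (Classical.arbitrary X)⟩, f.symm.surjective.connectedSpace f.symm.continuous, fun ℓ hℓ hℓL q h1 h2 => ?_⟩
  haveI := hX.2.2 ℓ hℓ hℓL q h1 h2
  haveI : PreservesFiniteLimits (EtCoh.pull e.hom) := pull_preservesFiniteLimits _
  haveI : IsIso (EtCore.pullConst e.hom (ZMod ℓ)).hom := inferInstance
  exact (Hpull_hmap_bijective e.hom _ (EtCore.pullConst e.hom (ZMod ℓ)).hom q).2.subsingleton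

variable {X Y : Scheme.{u}} (g : X ⟶ Y)

/-- the residue point is a geometric point algebraic over the residue field -/
theorem exists_geomPt (y : Y) (S : Type u) [CommRing S] [IsLocalRing S] [Algebra (Y.presheaf.stalk y) S]
    [IsLocalHom (algebraMap (Y.presheaf.stalk y) S)] [hS : Hensel.IsStrictHenselization (Y.presheaf.stalk y) S] :
    ∃ (_ : Algebra (Y.residueField y) (ResidueField S)) (_ : Algebra.IsAlgebraic (Y.residueField y) (ResidueField S)),
      EtAcyc.geomPt Y y (ResidueField S) = resPoint Y y S := by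
  let σ : Y.residueField y →+* ResidueField S := ResidueField.map (algebraMap (Y.presheaf.stalk y) S)
  haveI := hS.isSepClosure.separable
  refine ⟨σ.toAlgebra, ?_, ?_⟩
  · have hh : Algebra.IsAlgebraic (ResidueField (Y.presheaf.stalk y)) (ResidueField S) := inferInstance
    letI := σ.toAlgebra
    refine ⟨fun x => ?_⟩
    obtain ⟨p, hp, hpx⟩ := hh.isAlgebraic x
    exact ⟨p, hp, hpx⟩
  · show Spec.map (CommRingCat.ofHom σ) ≫ Y.fromSpecResidueField y = _
    rw [resPoint, resPt, Hens2.specOf, Scheme.fromSpecResidueField, ← Category.assoc, ← Category.assoc,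
      ← Spec.map_comp, ← Spec.map_comp]
    rfl

/-- the fibres over residue points of strict localizations -/
theorem isAcyclicSchemeN_resPoint {L : Set ℕ} {n : ℕ} (hg : EtAcyc.GeomFibresAcyclicN L n g) (y : Y) (S : Type u)
    [CommRing S] [IsLocalRing S] [Algebra (Y.presheaf.stalk y) S]
    [IsLocalHom (algebraMap (Y.presheaf.stalk y) S)] [hS : Hensel.IsStrictHenselization (Y.presheaf.stalk y) S] :
    EtAcyc.IsAcyclicSchemeN L n (pullback g (resPoint Y y S)) := by
  obtain ⟨_, _, he⟩ := exists_geomPt y S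
  haveI : IsSepClosed (ResidueField S) := hS.isSepClosure.sep_closed
  rw [← he]
  exact hg y (ResidueField S)

variable {T P : Scheme.{u}} {ρ : T ⟶ Y} {a : P ⟶ X} {b : P ⟶ T}

/-- geometric fibres of a base change -/
theorem fibres_baseChange (hρ : IndEtStrict.Transfers ρ) (sq : IsPullback a b g ρ) {L : Set ℕ} {n : ℕ}
    (hg : EtAcyc.GeomFibresAcyclicN L n g) (t : T) (S : Type u) [CommRing S] [IsLocalRing S]
    [Algebra (T.presheaf.stalk t) S] [IsLocalHom (algebraMap (T.presheaf.stalk t) S)]
    [Hensel.IsStrictHenselization (T.presheaf.stalk t) S] :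
    EtAcyc.IsAcyclicSchemeN L n (pullback (resPoint T t S) b) := by
  obtain ⟨i1, i2, i3, he⟩ := hρ t S
  have hr : resPoint T t S ≫ ρ = resPoint Y (ρ t) S := by
    rw [resPoint, resPoint, Category.assoc, he]
  let z := resPoint T t S
  have h1 : IsPullback (pullback.snd z b ≫ a) (pullback.fst z b) g (z ≫ ρ) :=
    (IsPullback.of_hasPullback z b).flip.paste_horiz sq
  rw [hr] at h1
  exact isAcyclicSchemeN_of_iso h1.isoPullback (isAcyclicSchemeN_resPoint g hg (ρ t) S)

/-- on an acyclic fibre every class comes from the point -/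
theorem fibRange_of_isAcyclicScheme (f : P ⟶ T) [QuasiCompact f] [QuasiSeparated f] (L : Set ℕ) {n : ℕ}
    {Ω : Type u} [Field Ω] [IsSepClosed Ω] (z : Spec (CommRingCat.of Ω) ⟶ T)
    (hz : EtAcyc.IsAcyclicSchemeN L n (pullback z f)) (F : EtCoh.Ab T) (hF : EtAcyc.IsLTorsion L F) (q : ℕ)
    (hq : q ≤ n) (ξ : EtCoh.H P (pullObj f F) q) : FibRange f F q ξ z := by
  intro _ _
  haveI : QuasiCompact (pullback.fst z f) := MorphismProperty.pullback_fst _ _ inferInstance
  haveI : QuasiSeparated (pullback.fst z f) := MorphismProperty.pullback_fst _ _ inferInstance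
  haveI : CompactSpace ↥(pullback z f) := QuasiCompact.compactSpace_of_compactSpace (pullback.fst z f)
  haveI : QuasiSeparatedSpace ↥(pullback z f) := quasiSeparatedSpace_of_quasiSeparated (pullback.fst z f)
  let G := (EtCoh.pull z).obj F
  have hgood := goodCoeff_of_isAcyclicScheme (pullback.fst z f) L hz G (isLTorsion_pull z L hF)
  haveI : IsIso (appOf (θPull (pullback.fst z f) z (pullback.fst z f ≫ z) rfl) F) := by delta appOf; infer_instance
  have hsurj : Function.Surjective (hVia (pullback.fst z f) z (pullback.fst z f ≫ z) rfl F q) := by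
    refine (hmap_bijective (appOf (θPull (pullback.fst z f) z (pullback.fst z f ≫ z) rfl) F) q).2.comp ?_
    obtain _ | p := q
    · exact hgood.1.2
    · intro w
      haveI := hgood.2 (p + 1) (by omega) hq
      exact ⟨0, Subsingleton.elim (α := EtCoh.H (pullback z f) ((EtCoh.pull (pullback.fst z f)).obj G) (p + 1)) _ _⟩
  obtain ⟨c, hc⟩ := hsurj (hVia (pullback.snd z f) f (pullback.fst z f ≫ z) pullback.condition.symm F q ξ)
  exact ⟨c, hc.symm⟩

end Groth.Agent.AcycCover
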