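import Groth.Agent.AcycCover.Strict
import Groth.Agent.UnitStalk.Main
import Groth.Agent.EtFound.Stalk
import Groth.Agent.S3510

/-!
# Acyclicity from the geometric fibres
-/

set_option autoImplicit false
set_option linter.style.haveILetI false
universe u

open CategoryTheory CategoryTheory.Limits AlgebraicGeometry Opposite IsLocalRing

namespace Groth.Agent.AcycCover

open Groth.Agent.EtLimit Groth.Agent.EtFound Groth.Agent.EtBC

set_option backward.isDefEq.respectTransparency.types false

variable {X Y T P : Scheme.{u}} {g : X ⟶ Y} {ρ : T ⟶ Y} {a : P ⟶ X} {b : P ⟶ T}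

/-- properties of strict localizations pass along squares with ind-étale horizontal morphisms -/
theorem onStrictLocalizations_square (hρ : IndEtStrict.Transfers ρ) (ha : IndEtStrict.Transfers a)
    (w : a ≫ g = b ≫ ρ) {Q : ∀ ⦃X' Y' : Scheme.{u}⦄, (X' ⟶ Y') → Prop}
    (h : EtAcyc.OnStrictLocalizations g Q) : EtAcyc.OnStrictLocalizations b Q := by
  intro x RY RX _ _ _ _ _ _ _ _ _ _ _ _ hc
  obtain ⟨i1, i2, i3, h1⟩ := hρ (b.base x) RY
  obtain ⟨j1, j2, j3, h2⟩ := ha x RX
  have hs := specOf_map x RY RX (algebraMap RY RX) hc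
  refine onStrictLocalizations_apply g h (a x) (ρ (b x)) ?_ RY RX (algebraMap RY RX) ?_
  · exact (Scheme.Hom.comp_apply _ _ _).symm.trans
      ((congrArg (fun k : P ⟶ Y => k x) w).trans (Scheme.Hom.comp_apply _ _ _))
  · calc Spec.map (CommRingCat.ofHom (algebraMap RY RX)) ≫ Hens2.specOf Y (ρ (b x)) RY
        = Spec.map (CommRingCat.ofHom (algebraMap RY RX)) ≫ Hens2.specOf T (b x) RY ≫ ρ := by rw [h1]
      _ = (Hens2.specOf P x RX ≫ b) ≫ ρ := by rw [← Category.assoc]; exact congrArg (· ≫ ρ) hs
      _ = Hens2.specOf P x RX ≫ a ≫ g := by rw [Category.assoc, w]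
      _ = Hens2.specOf X (a x) RX ≫ g := by rw [← Category.assoc, h2]

variable (g) [QuasiCompact g] [QuasiSeparated g] (L : Set ℕ) (n : ℕ) (hfib : EtAcyc.GeomFibresAcyclicN L n g)
  (hsurj : EtAcyc.OnStrictLocalizations g fun _ _ h => Surjective h)
  (hloc : ∀ m, m < n → EtAcyc.IsLocAcyclicN g L m)

include hfib hsurj hloc in
set_option maxHeartbeats 1000000 in
/-- the fibre of a strict localization of an étale scheme over the base -/
theorem bijective_strict_fibre (V : Y.Etale) (F : EtCoh.Ab V.left) (hF : EtAcyc.IsLTorsion L F) (v : V.left)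
    (RV : Type u) [CommRing RV] [IsLocalRing RV] [Algebra (V.left.presheaf.stalk v) RV]
    [IsLocalHom (algebraMap (V.left.presheaf.stalk v) RV)] [hRV : Hensel.IsStrictHenselization (V.left.presheaf.stalk v) RV]
    (q : ℕ) (hq : q ≤ n) [PreservesFiniteLimits (EtCoh.pull (pullback.snd (EtAcyc.prj g V) (Hens2.specOf V.left v RV)))] :
    Function.Bijective (hVia (pullback.snd (EtAcyc.prj g V) (Hens2.specOf V.left v RV)) (Hens2.specOf V.left v RV)
      (pullback.fst (EtAcyc.prj g V) (Hens2.specOf V.left v RV) ≫ EtAcyc.prj g V) pullback.condition.symm F q) := by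
  haveI : AlgebraicGeometry.Etale V.hom := V.prop
  haveI : HenselianLocalRing RV := hRV.henselian
  haveI : IsSepClosed (ResidueField RV) := hRV.isSepClosure.sep_closed
  let h := EtAcyc.prj g V
  let π := Hens2.specOf V.left v RV
  let gT := pullback.snd h π
  have sq : IsPullback (pullback.fst h π ≫ pullback.snd V.hom g) gT g (π ≫ V.hom) :=
    (IsPullback.of_hasPullback h π).paste_horiz (IsPullback.of_hasPullback V.hom g).flip
  have hρ := IndEtStrict.isChart_specOf_comp (V := V.left) V.hom v RV
  have ha := hρ.transfers_pullback sq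
  haveI : QuasiCompact gT := MorphismProperty.of_isPullback sq inferInstance
  haveI : QuasiSeparated gT := MorphismProperty.of_isPullback sq inferInstance
  have hC : EtAcyc.CompN gT L n := compN_strict gT L n
    (fun y S _ _ _ _ _ => fibres_baseChange g hρ.transfers sq hfib y S)
    (onStrictLocalizations_square hρ.transfers ha sq.w hsurj)
    (fun m hm => onStrictLocalizations_square hρ.transfers ha sq.w (hloc m hm))
  have hb := (hC ((EtCoh.pull π).obj F) (isLTorsion_pull π L hF)).1 q hq
  haveI : IsIso (appOf (θPull gT π (pullback.fst h π ≫ h) pullback.condition.symm) F) := by delta appOf; infer_instance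
  exact (hmap_bijective (appOf (θPull gT π (pullback.fst h π ≫ h) pullback.condition.symm) F) q).comp hb

include hfib hsurj hloc in
set_option maxHeartbeats 1000000 in
/-- acyclicity from the fibres and the local acyclicity in lower degrees -/
theorem isAcyclicN_of_fibres : EtAcyc.IsAcyclicN g L n := by
  refine (S3510.result g L n).2 fun V F hF => ?_
  let h := EtAcyc.prj g V
  haveI : QuasiCompact h := MorphismProperty.pullback_fst _ _ inferInstance
  haveI : QuasiSeparated h := MorphismProperty.pullback_fst _ _ inferInstance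
  haveI : PreservesFiniteLimits (EtCoh.pull h) := pull_preservesFiniteLimits _
  refine ⟨EtFound.isIso_of_stalks _ fun Ω _ _ ξ => ?_, fun q h1 hqn => (isZero_iff_stalks _).2 fun Ω _ _ ξ => ?_⟩
  · obtain ⟨v, RV, _, _, _, _, hRV, τ, rfl⟩ := exists_strict_point ξ
    haveI := hRV.henselian
    haveI := hRV.isSepClosure.sep_closed
    obtain ⟨P⟩ := nonempty_etPres_specOf V.left v RV
    haveI := pull_preservesFiniteLimits (pullback.snd h (Hens2.specOf V.left v RV))
    haveI := UnitStalk.isIso_stalk_unit h P (liftsUniquely_strict RV _ _ (resPt_base RV τ)) F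
      (bijective_strict_fibre g L n hfib hsurj hloc V F hF v RV 0 (Nat.zero_le _))
    exact (ConcreteCategory.isIso_iff_bijective
      ((EtCoh.stalk (resPt RV τ ≫ Hens2.specOf V.left v RV)).map ((EtCoh.pullPushAdj h).unit.app F))).1 inferInstance
  · obtain ⟨v, RV, _, _, _, _, hRV, τ, rfl⟩ := exists_strict_point ξ
    haveI := hRV.henselian
    haveI := hRV.isSepClosure.sep_closed
    obtain ⟨P⟩ := nonempty_etPres_specOf V.left v RV
    haveI := pull_preservesFiniteLimits (pullback.snd h (Hens2.specOf V.left v RV))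
    exact UnitStalk.isZero_stalk_Rpush h P (liftsUniquely_strict RV _ _ (resPt_base RV τ)) F q h1
      (bijective_strict_fibre g L n hfib hsurj hloc V F hF v RV q hqn)

omit g in
theorem isAcyclicN_mono {X Y : Scheme.{u}} {g : X ⟶ Y} {L : Set ℕ} {m n : ℕ} (hmn : m ≤ n)
    (h : EtAcyc.IsAcyclicN g L n) : EtAcyc.IsAcyclicN g L m := fun V F hF _ => by
  refine ⟨fun q hq => (h V F hF).1 q (hq.trans hmn), ?_⟩
  obtain hlt | rfl := Nat.lt_or_eq_of_le hmn
  · exact ((h V F hF).1 (m + 1) hlt).1
  · exact (h V F hF).2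

omit g in
theorem isLocAcyclicN_mono {X Y : Scheme.{u}} {g : X ⟶ Y} {L : Set ℕ} {m n : ℕ} (hmn : m ≤ n)
    (h : EtAcyc.IsLocAcyclicN g L n) : EtAcyc.IsLocAcyclicN g L m := by
  intro x RY RX _ _ _ _ _ _ _ _ _ _ _ _ hc
  exact isAcyclicN_mono hmn (h x RY RX hc)

omit g in
theorem surjective_of_geomFibres {X Y : Scheme.{u}} {g : X ⟶ Y} {L : Set ℕ} {n : ℕ}
    (h : EtAcyc.GeomFibresAcyclicN L n g) : Surjective g := ⟨fun y => by
  let Ω := SeparableClosure (Y.residueField y)
  let z := EtAcyc.geomPt Y y Ω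
  obtain ⟨w⟩ := (h y Ω).1
  refine ⟨(pullback.fst g z).base w, ?_⟩
  refine ((Scheme.Hom.comp_apply _ _ _).symm.trans ((congrArg (fun k : pullback g z ⟶ Y => k.base w) pullback.condition).trans
    (Scheme.Hom.comp_apply _ _ _))).trans ?_
  refine (Scheme.Hom.comp_apply _ _ _).trans ?_
  exact Scheme.fromSpecResidueField_apply _ _⟩

end Groth.Agent.AcycCover
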