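import Groth.Agent.UnitStalk.StrictPullback
import Groth.Prelude.Def_EtAcyc

/-!
# The maps of strict localizations of a morphism
-/

set_option autoImplicit false
set_option linter.style.haveILetI false
universe u

open CategoryTheory AlgebraicGeometry IsLocalRing

namespace Groth.Agent.AcycCover

variable {X Y : Scheme.{u}} (g : X ⟶ Y) (x : X) (RY RX : Type u) [CommRing RY] [IsLocalRing RY] [CommRing RX]
  [IsLocalRing RX] [Algebra (Y.presheaf.stalk (g.base x)) RY]
  [IsLocalHom (algebraMap (Y.presheaf.stalk (g.base x)) RY)]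
  [hRY : Hensel.IsStrictHenselization (Y.presheaf.stalk (g.base x)) RY]
  [Algebra (X.presheaf.stalk x) RX] [IsLocalHom (algebraMap (X.presheaf.stalk x) RX)]
  [hRX : Hensel.IsStrictHenselization (X.presheaf.stalk x) RX]

/-- compatible maps of strict henselizations exist -/
theorem exists_strictMap : ∃ (ψ : RY →+* RX) (_ : IsLocalHom ψ),
    ψ.comp (algebraMap (Y.presheaf.stalk (g.base x)) RY) =
      (algebraMap (X.presheaf.stalk x) RX).comp (g.stalkMap x).hom := by
  haveI := hRX.henselian
  haveI := hRX.isSepClosure.sep_closed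
  haveI := hRY.isSepClosure.separable
  haveI : IsLocalHom (g.stalkMap x).hom := inferInstanceAs (IsLocalHom (g.stalkMap x).hom)
  let φ : Y.presheaf.stalk (g.base x) →+* RX := (algebraMap (X.presheaf.stalk x) RX).comp (g.stalkMap x).hom
  haveI : IsLocalHom φ := RingHom.isLocalHom_comp _ _
  letI : Algebra (ResidueField (Y.presheaf.stalk (g.base x))) (ResidueField RX) := (ResidueField.map φ).toAlgebra
  let τ : ResidueField RY →ₐ[ResidueField (Y.presheaf.stalk (g.base x))] ResidueField RX := IsSepClosed.lift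
  obtain ⟨ψ, ⟨h1, h2⟩, -⟩ := hRY.universal RX φ τ.toRingHom (RingHom.ext fun c => τ.commutes c)
  refine ⟨ψ, ⟨fun a ha => ?_⟩, h1⟩
  by_contra hu
  have h0 : residue RX (ψ a) = 0 := by rw [h2, (residue_eq_zero_iff a).2 hu, map_zero]
  exact ((residue_eq_zero_iff _).1 h0) ha

/-- local properties on strict localizations from a description by morphisms of schemes -/
theorem onStrictLocalizations_apply {P : ∀ ⦃X' Y' : Scheme.{u}⦄, (X' ⟶ Y') → Prop}
    (h : EtAcyc.OnStrictLocalizations g P) (x : X) (y : Y) (hxy : g.base x = y)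
    (RY RX : Type u) [CommRing RY] [IsLocalRing RY] [CommRing RX] [IsLocalRing RX]
    [Algebra (Y.presheaf.stalk y) RY] [IsLocalHom (algebraMap (Y.presheaf.stalk y) RY)]
    [Hensel.IsStrictHenselization (Y.presheaf.stalk y) RY]
    [Algebra (X.presheaf.stalk x) RX] [IsLocalHom (algebraMap (X.presheaf.stalk x) RX)]
    [Hensel.IsStrictHenselization (X.presheaf.stalk x) RX] (ψ : RY →+* RX) [IsLocalHom ψ]
    (e : Spec.map (CommRingCat.ofHom ψ) ≫ Hens2.specOf Y y RY = Hens2.specOf X x RX ≫ g) :
    P (Spec.map (CommRingCat.ofHom ψ)) := by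
  subst hxy
  letI : Algebra RY RX := ψ.toAlgebra
  haveI : IsLocalHom (algebraMap RY RX) := inferInstanceAs (IsLocalHom ψ)
  refine h x RY RX ?_
  refine UnitStalk.hom_eq_of_fromSpecStalk _ _ _ ?_
  refine Eq.trans ?_ (UnitStalk.specMap_fromSpecStalk g x _).symm
  rw [CommRingCat.ofHom_comp, Spec.map_comp, Category.assoc]
  refine e.trans ?_
  rw [Hens2.specOf, Category.assoc]

end Groth.Agent.AcycCover
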