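import Groth.Agent.AcycCover.Fibres
import Groth.Agent.EtLC12.HenselClosedPoint
import Groth.Agent.S0073

/-!
# Morphisms to strictly local schemes
-/

set_option autoImplicit false
set_option linter.style.haveILetI false
universe u

open CategoryTheory CategoryTheory.Limits AlgebraicGeometry Opposite IsLocalRing

namespace Groth.Agent.AcycCover

open Groth.Agent.EtLimit Groth.Agent.EtFound Groth.Agent.EtBC

set_option backward.isDefEq.respectTransparency.types false

/-- pulling back twice -/
theorem hVia_Hpull {U V Z : Scheme.{u}} (m : V ⟶ U) (t : U ⟶ Z) (c : V ⟶ Z) (e : m ≫ t = c)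
    [PreservesFiniteLimits (EtCoh.pull m)] [PreservesFiniteLimits (EtCoh.pull t)]
    [PreservesFiniteLimits (EtCoh.pull c)] (F : EtCoh.Ab Z) (n : ℕ) (φ : EtCoh.H Z F n) :
    hVia m t c e F n (EtCore.Hpull t F n φ) = EtCore.Hpull c F n φ :=
  (HpullVia_eq m t c e F n _).symm.trans (HpullVia_Hpull m t c e F n φ)

theorem hVia_zero_injective {U V Z : Scheme.{u}} (m : V ⟶ U) (t : U ⟶ Z) (c : V ⟶ Z) (e : m ≫ t = c)
    [PreservesFiniteLimits (EtCoh.pull m)] (F : EtCoh.Ab Z) (hm : Function.Injective (EtCore.Hpull m (pullObj t F) 0)) :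
    Function.Injective (hVia m t c e F 0) := by
  haveI : IsIso (appOf (θPull m t c e) F) := by delta appOf; infer_instance
  exact (hmap_bijective (appOf (θPull m t c e) F) 0).1.comp hm

variable (R : Type u) [CommRing R] [HenselianLocalRing R] [IsSepClosed (ResidueField R)]

/-- a strictly henselian ring is a strict henselization of its local ring at the closed point -/
theorem exists_self_strict :
    ∃ (_ : Algebra ((Spec (CommRingCat.of R)).presheaf.stalk (closedPoint R)) R)
      (_ : IsLocalHom (algebraMap ((Spec (CommRingCat.of R)).presheaf.stalk (closedPoint R)) R))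
      (_ : Hensel.IsStrictHenselization ((Spec (CommRingCat.of R)).presheaf.stalk (closedPoint R)) R),
      Hens2.specOf (Spec (CommRingCat.of R)) (closedPoint R) R = 𝟙 _ := by
  let T := Spec (CommRingCat.of R)
  obtain ⟨α, hα, hαe⟩ := UnitStalk.exists_stalk_hom (𝟙 T) (x := closedPoint R) rfl
  letI : Algebra R (T.presheaf.stalk (closedPoint R)) := StructureSheaf.stalkAlgebra R (closedPoint R)
  haveI : IsLocalization.AtPrime (T.presheaf.stalk (closedPoint R)) (closedPoint R).asIdeal :=
    StructureSheaf.IsLocalization.to_stalk R (closedPoint R)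
  letI aS : Algebra (T.presheaf.stalk (closedPoint R)) R := α.toAlgebra
  haveI : IsLocalHom (algebraMap (T.presheaf.stalk (closedPoint R)) R) := hα
  have hid : α.comp (algebraMap R (T.presheaf.stalk (closedPoint R))) = RingHom.id R := by
    have h : CommRingCat.ofHom (algebraMap R (T.presheaf.stalk (closedPoint R))) ≫ CommRingCat.ofHom α =
        𝟙 (CommRingCat.of R) := by
      refine Spec.map_injective ?_
      rw [Spec.map_comp, Spec.map_id]
      refine Eq.trans ?_ hαe
      exact congrArg (Spec.map (CommRingCat.ofHom α) ≫ ·) (Spec.fromSpecStalk_eq' (CommRingCat.of R) (closedPoint R)).symm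
    exact congrArg CommRingCat.Hom.hom h
  have hbij : Function.Bijective α := by
    let e : R ≃ₐ[R] T.presheaf.stalk (closedPoint R) :=
      IsLocalization.atUnits R (closedPoint R).asIdeal.primeCompl fun x hx => IsLocalRing.notMem_maximalIdeal.1 hx
    exact ⟨fun a b hab => by
      obtain ⟨a, rfl⟩ := e.surjective a
      obtain ⟨b, rfl⟩ := e.surjective b
      have ha : ∀ c, α (e c) = c := fun c => by
        rw [← mul_one c, ← smul_eq_mul, map_smul, map_one, ← Algebra.algebraMap_eq_smul_one, smul_eq_mul, mul_one]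
        exact congr($hid c)
      rw [ha, ha] at hab
      rw [hab], fun r => ⟨algebraMap R _ r, congr($hid r)⟩⟩
  haveI : Algebra.Etale (T.presheaf.stalk (closedPoint R)) R :=
    RingHom.etale_algebraMap.1 (RingHom.Etale.of_bijective hbij)
  exact ⟨aS, hα, IndEtStrict.isStrictHenselization_of_isIndEtale _ R (IndEtStrict.isIndEtale_of_etale _ _), hαe⟩

variable {R} {X : Scheme.{u}} (g : X ⟶ Spec (CommRingCat.of R)) [QuasiCompact g] [QuasiSeparated g]
  [PreservesFiniteLimits (EtCoh.pull g)] (L : Set ℕ) (n : ℕ)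
  (hfib : ∀ (y : Spec (CommRingCat.of R)) (S : Type u) [CommRing S] [IsLocalRing S]
      [Algebra ((Spec (CommRingCat.of R)).presheaf.stalk y) S]
      [IsLocalHom (algebraMap ((Spec (CommRingCat.of R)).presheaf.stalk y) S)]
      [Hensel.IsStrictHenselization ((Spec (CommRingCat.of R)).presheaf.stalk y) S],
      EtAcyc.IsAcyclicSchemeN L n (pullback (resPoint (Spec (CommRingCat.of R)) y S) g))

include hfib in
omit [HenselianLocalRing R] [IsSepClosed (ResidueField R)] [QuasiCompact g] [QuasiSeparated g]
  [PreservesFiniteLimits (EtCoh.pull g)] in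
theorem exists_fibre_point (x : X) : ∃ (S : Type u) (_ : CommRing S) (_ : IsLocalRing S)
    (_ : Algebra ((Spec (CommRingCat.of R)).presheaf.stalk (g.base x)) S)
    (_ : IsLocalHom (algebraMap ((Spec (CommRingCat.of R)).presheaf.stalk (g.base x)) S))
    (_ : Hensel.IsStrictHenselization ((Spec (CommRingCat.of R)).presheaf.stalk (g.base x)) S),
    x ∈ Set.range (pullback.snd (resPoint (Spec (CommRingCat.of R)) (g.base x) S) g).base := by
  obtain ⟨S, _, _, _, _, _⟩ := S0537.result ((Spec (CommRingCat.of R)).presheaf.stalk (g.base x))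
  refine ⟨S, inferInstance, inferInstance, inferInstance, inferInstance, inferInstance, ?_⟩
  have hy : (resPoint (Spec (CommRingCat.of R)) (g.base x) S).base (closedPoint (ResidueField S)) = g.base x := by
    refine (Scheme.Hom.comp_apply _ _ _).trans ?_
    erw [resPt_base]
    exact UnitStalk.specMap_closed (g.base x) (algebraMap _ S)
  obtain ⟨z, -, hz⟩ := Scheme.Pullback.exists_preimage_pullback _ _ hy
  exact ⟨z, hz⟩

omit [HenselianLocalRing R] [IsSepClosed (ResidueField R)] [QuasiCompact g] [QuasiSeparated g]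
  [PreservesFiniteLimits (EtCoh.pull g)] in
theorem resPoint_apply (y : Spec (CommRingCat.of R)) (S : Type u) [CommRing S] [IsLocalRing S]
    [Algebra ((Spec (CommRingCat.of R)).presheaf.stalk y) S]
    [IsLocalHom (algebraMap ((Spec (CommRingCat.of R)).presheaf.stalk y) S)]
    (a : Spec (CommRingCat.of (ResidueField S))) : (resPoint (Spec (CommRingCat.of R)) y S).base a = y := by
  refine (Scheme.Hom.comp_apply _ _ _).trans ?_
  erw [resPt_base]
  exact UnitStalk.specMap_closed y (algebraMap _ S)

include hfib in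
omit [HenselianLocalRing R] [IsSepClosed (ResidueField R)] [QuasiCompact g] [QuasiSeparated g]
  [PreservesFiniteLimits (EtCoh.pull g)] in
theorem surjective_of_fibres : Surjective g := ⟨fun y => by
  obtain ⟨S, _, _, _, _, _⟩ := S0537.result ((Spec (CommRingCat.of R)).presheaf.stalk y)
  let z := resPoint (Spec (CommRingCat.of R)) y S
  obtain ⟨w⟩ := (hfib y S).1
  exact ⟨(pullback.snd z g).base w, ((Scheme.Hom.comp_apply _ _ _).symm.trans
    ((congrArg (fun k : pullback z g ⟶ Spec (CommRingCat.of R) => k.base w) pullback.condition.symm).trans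
      (Scheme.Hom.comp_apply _ _ _))).trans (resPoint_apply y S _)⟩⟩

/-- the pullback of a class, as a class with coefficients in the inverse image -/
noncomputable def pullClass (F : EtCoh.Ab (Spec (CommRingCat.of R))) (q : ℕ) :
    EtCoh.H (Spec (CommRingCat.of R)) F q →+ EtCoh.H X (pullObj g F) q :=
  EtCore.Hpull g F q

/-- a class vanishes on `U` -/
def VanishOn (F : EtCoh.Ab (Spec (CommRingCat.of R))) (q : ℕ) (s : EtCoh.H X (pullObj g F) q) {U : Scheme.{u}}
    (u : U ⟶ X) : Prop :=
  ∀ [PreservesFiniteLimits (EtCoh.pull u)], hVia u g (u ≫ g) rfl F q s = 0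

variable {g} {F : EtCoh.Ab (Spec (CommRingCat.of R))} {q : ℕ} {s : EtCoh.H X (pullObj g F) q}

omit [HenselianLocalRing R] [IsSepClosed (ResidueField R)] [QuasiCompact g] [QuasiSeparated g]
  [PreservesFiniteLimits (EtCoh.pull g)] in
theorem VanishOn.comp {U V : Scheme.{u}} {u : U ⟶ X} (h : VanishOn g F q s u) (k : V ⟶ U) (v : V ⟶ X)
    (hv : k ≫ u = v) : VanishOn g F q s v := by
  intro _
  haveI : PreservesFiniteLimits (EtCoh.pull u) := pull_preservesFiniteLimits _
  haveI : PreservesFiniteLimits (EtCoh.pull k) := pull_preservesFiniteLimits _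
  have he : k ≫ u ≫ g = v ≫ g := by rw [← Category.assoc, hv]
  refine (hVia_comp k u g v (u ≫ g) (v ≫ g) hv rfl he rfl F q s).symm.trans ?_
  rw [@h _, map_zero]

omit [HenselianLocalRing R] [IsSepClosed (ResidueField R)] [QuasiCompact g] [QuasiSeparated g]
  [PreservesFiniteLimits (EtCoh.pull g)] in
theorem VanishOn.hVia_eq_zero {U : Scheme.{u}} {u : U ⟶ X} (h : VanishOn g F q s u)
    [PreservesFiniteLimits (EtCoh.pull u)] : hVia u g (u ≫ g) rfl F q s = 0 := @h _

omit [HenselianLocalRing R] [IsSepClosed (ResidueField R)] [QuasiCompact g] [QuasiSeparated g]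
  [PreservesFiniteLimits (EtCoh.pull g)] in
theorem VanishOn.Hpull_eq_zero {U : Scheme.{u}} {u : U ⟶ X} (h : VanishOn g F q s u)
    [PreservesFiniteLimits (EtCoh.pull u)] : EtCore.Hpull u (pullObj g F) q s = 0 := by
  have hi : IsIso (appOf (θPull u g (u ≫ g) rfl) F) := by delta appOf; infer_instance
  exact @EtLimit.Hpull_eq_zero _ _ u _ (pullObj g F) _ (appOf (θPull u g (u ≫ g) rfl) F) hi q s (@h _)

variable (g F)

include hfib in
omit [HenselianLocalRing R] [IsSepClosed (ResidueField R)] [PreservesFiniteLimits (EtCoh.pull g)] in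
/-- sections vanishing on a strict localization which surjects to the base vanish on every fibre -/
theorem vanishOn_fibre (hF : EtAcyc.IsLTorsion L F) (s : EtCoh.H X (pullObj g F) 0) {U : Scheme.{u}} (u : U ⟶ X)
    [Surjective (u ≫ g)] (hu : VanishOn g F 0 s u) (y : Spec (CommRingCat.of R)) (S : Type u) [CommRing S]
    [IsLocalRing S] [Algebra ((Spec (CommRingCat.of R)).presheaf.stalk y) S]
    [IsLocalHom (algebraMap ((Spec (CommRingCat.of R)).presheaf.stalk y) S)]
    [hS : Hensel.IsStrictHenselization ((Spec (CommRingCat.of R)).presheaf.stalk y) S] :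
    VanishOn g F 0 s (pullback.snd (resPoint (Spec (CommRingCat.of R)) y S) g) := by
  let z := resPoint (Spec (CommRingCat.of R)) y S
  haveI : IsSepClosed (ResidueField S) := hS.isSepClosure.sep_closed
  haveI := pull_preservesFiniteLimits (pullback.snd z g)
  haveI := pull_preservesFiniteLimits (pullback.fst z g)
  obtain ⟨b, hb⟩ := @fibRange_of_isAcyclicScheme _ _ g _ _ L n _ _ _ z (hfib _ S) F hF 0 (Nat.zero_le _) s _ _
  have hb0 : b = 0 := by
    let fP := pullback.fst z (u ≫ g)
    let sP := pullback.snd z (u ≫ g)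
    let K : pullback z (u ≫ g) ⟶ pullback z g :=
      pullback.lift fP (sP ≫ u) (pullback.condition.trans (Category.assoc _ _ _).symm)
    haveI : Surjective fP := MorphismProperty.pullback_fst _ _ ‹_›
    haveI : PreservesFiniteLimits (EtCoh.pull fP) := pull_preservesFiniteLimits _
    haveI : PreservesFiniteLimits (EtCoh.pull K) := pull_preservesFiniteLimits _
    haveI : PreservesFiniteLimits (EtCoh.pull (sP ≫ u)) := pull_preservesFiniteLimits _
    refine hVia_zero_injective fP z (fP ≫ z) rfl F (Hpull_zero_injective fP _) (Eq.trans ?_ (map_zero _).symm)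
    have hK : K ≫ pullback.fst z g = fP := pullback.lift_fst _ _ _
    have hKz : K ≫ pullback.fst z g ≫ z = fP ≫ z := by rw [← Category.assoc, hK]
    have hs : (sP ≫ u) ≫ g = fP ≫ z := (Category.assoc _ _ _).trans pullback.condition.symm
    refine (hVia_comp K (pullback.fst z g) z fP (pullback.fst z g ≫ z) (fP ≫ z) hK rfl hKz rfl F 0 b).symm.trans ?_
    refine (congrArg _ hb.symm).trans ?_
    refine (hVia_comp K (pullback.snd z g) g (sP ≫ u) (pullback.fst z g ≫ z) (fP ≫ z) (pullback.lift_snd _ _ _)
      pullback.condition.symm hKz hs F 0 s).trans ?_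
    exact (hVia_eq_congr (sP ≫ u) g (sP ≫ u) g ((sP ≫ u) ≫ g) (fP ≫ z) hs rfl rfl hs hs F 0 s 0
      ((hu.comp sP (sP ≫ u) rfl).trans (map_zero _).symm)).trans (map_zero _)
  intro _
  refine (hVia_eq_congr (pullback.snd z g) g (pullback.fst z g) z _ (pullback.snd z g ≫ g) pullback.condition
    pullback.condition.symm rfl rfl pullback.condition F 0 s b hb).trans ?_
  rw [hb0, map_zero]

omit [IsSepClosed (ResidueField R)] [QuasiCompact g] [QuasiSeparated g]
  [PreservesFiniteLimits (EtCoh.pull g)] in
/-- vanishing on the closed fibre gives vanishing on a strict localization over it -/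
theorem vanishOn_strict (s : EtCoh.H X (pullObj g F) 0)
    (h0 : VanishOn g F 0 s (pullback.snd (EtFound.cpt R) g)) (RX : Type u) [CommRing RX] [HenselianLocalRing RX]
    [IsSepClosed (ResidueField RX)] (u : Spec (CommRingCat.of RX) ⟶ X) (ψ : R →+* RX) [IsLocalHom ψ]
    (hψ : Spec.map (CommRingCat.ofHom ψ) = u ≫ g) : VanishOn g F 0 s u := by
  let c := EtFound.cpt RX
  haveI : PreservesFiniteLimits (EtCoh.pull c) := pull_preservesFiniteLimits _
  let l : Spec (CommRingCat.of (ResidueField RX)) ⟶ Spec (CommRingCat.of (ResidueField R)) :=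
    Spec.map (CommRingCat.ofHom (ResidueField.map ψ))
  have hl : l ≫ EtFound.cpt R = (c ≫ u) ≫ g := by
    rw [Category.assoc, ← hψ]
    show Spec.map _ ≫ Spec.map _ = Spec.map _ ≫ Spec.map _
    rw [← Spec.map_comp, ← Spec.map_comp]
    rfl
  intro _
  haveI : PreservesFiniteLimits (EtCoh.pull (c ≫ u)) := pull_preservesFiniteLimits _
  refine hVia_zero_injective c (u ≫ g) ((c ≫ u) ≫ g) (Category.assoc _ _ _).symm F
    (EtLC12.HenselClosedPoint.Hpull_bijective RX _ 0).1 (Eq.trans ?_ (map_zero _).symm)
  refine (hVia_comp c u g (c ≫ u) (u ≫ g) ((c ≫ u) ≫ g) rfl rfl (Category.assoc _ _ _).symm rfl F 0 s).trans ?_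
  exact h0.comp (pullback.lift l (c ≫ u) hl) (c ≫ u) (pullback.lift_snd _ _ _)

include hfib in
/-- a section agrees with a constant on the closed fibre -/
theorem exists_vanishOn_closed (hF : EtAcyc.IsLTorsion L F)
    (s : EtCoh.H X (pullObj g F) 0) :
    ∃ a, VanishOn g F 0 (s - pullClass g F 0 a) (pullback.snd (EtFound.cpt R) g) := by
  obtain ⟨i1, i2, i3, hone⟩ := exists_self_strict R
  let T := Spec (CommRingCat.of R)
  have hz : resPoint T (closedPoint R) R = EtFound.cpt R := by
    show resPt R (RingHom.id _) ≫ Hens2.specOf T _ R = _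
    rw [hone, Category.comp_id]
  let z := EtFound.cpt R
  haveI : PreservesFiniteLimits (EtCoh.pull z) := pull_preservesFiniteLimits _
  haveI := pull_preservesFiniteLimits (pullback.snd z g)
  haveI := pull_preservesFiniteLimits (pullback.fst z g)
  haveI := pull_preservesFiniteLimits (pullback.fst z g ≫ z)
  have hz' : EtAcyc.IsAcyclicSchemeN L n (pullback z g) := by
    have := hfib (closedPoint R) R
    rwa [hz] at this
  obtain ⟨b, hb⟩ := @fibRange_of_isAcyclicScheme _ _ g _ _ L n _ _ _ z hz' F hF 0 (Nat.zero_le _) s _ _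
  obtain ⟨a, rfl⟩ := (EtLC12.HenselClosedPoint.Hpull_bijective R F 0).2 b
  refine ⟨a, fun {_} => ?_⟩
  have h : hVia (pullback.snd z g) g (pullback.fst z g ≫ z) pullback.condition.symm F 0 (s - pullClass g F 0 a) =
      hVia (pullback.snd z g) g (pullback.fst z g ≫ z) pullback.condition.symm F 0 0 := by
    rw [map_zero]
    refine (map_sub _ s (pullClass g F 0 a)).trans (sub_eq_zero.2 ?_)
    exact hb.trans ((hVia_Hpull (pullback.fst z g) z _ rfl F 0 a).trans
      (hVia_Hpull (pullback.snd z g) g (pullback.fst z g ≫ z) pullback.condition.symm F 0 a).symm)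
  exact (hVia_eq_congr (pullback.snd z g) g (pullback.snd z g) g _ (pullback.snd z g ≫ g) pullback.condition
    pullback.condition.symm pullback.condition.symm rfl rfl F 0 _ _ h).trans (map_zero _)

variable (hsurj : EtAcyc.OnStrictLocalizations g fun _ _ h => Surjective h)

include hfib hsurj in
/-- global sections are those of the base -/
theorem bijective_zero (hF : EtAcyc.IsLTorsion L F) : Function.Bijective (EtCore.Hpull g F 0) := by
  haveI := surjective_of_fibres g L n hfib
  refine ⟨Hpull_zero_injective g F, fun (s : EtCoh.H X (pullObj g F) 0) => ?_⟩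
  obtain ⟨a, ha⟩ := exists_vanishOn_closed g L n hfib F hF s
  refine ⟨a, ?_⟩
  suffices h : s - pullClass g F 0 a = 0 from (sub_eq_zero.1 h).symm
  obtain ⟨i1, i2, i3, hone⟩ := exists_self_strict R
  obtain ⟨x₀, hx₀⟩ := g.surjective (closedPoint R)
  obtain ⟨RX, _, _, _, _, hRX⟩ := S0537.result (X.presheaf.stalk x₀)
  haveI := hRX.henselian
  haveI := hRX.isSepClosure.sep_closed
  let u := Hens2.specOf X x₀ RX
  obtain ⟨ψ, hψl, hψ⟩ := UnitStalk.exists_spec_hom (R := R) (T := RX) (u ≫ g)
    ((Scheme.Hom.comp_apply _ _ _).trans ((congrArg g.base (UnitStalk.specMap_closed x₀ (algebraMap _ RX))).trans hx₀))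
  haveI hsu : Surjective (u ≫ g) := by
    have := onStrictLocalizations_apply g hsurj x₀ (closedPoint R) hx₀ R RX ψ (by rw [hψ, hone, Category.comp_id])
    rwa [hψ] at this
  have hu : VanishOn g F 0 (s - pullClass g F 0 a) u := vanishOn_strict g F (s - pullClass g F 0 a) ha RX u ψ hψ
  choose S c1 c2 c3 c4 c5 hx using exists_fibre_point g L n hfib
  haveI : ∀ x, PreservesFiniteLimits (EtCoh.pull (pullback.snd
      (@resPoint (Spec (CommRingCat.of R)) (g.base x) (S x) (c1 x) (c2 x) (c3 x)) g)) :=
    fun x => pull_preservesFiniteLimits _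
  exact eq_zero_of_Hpull _ (fun x => ⟨x, hx x⟩) _ fun x =>
    (@vanishOn_fibre _ _ _ g _ _ L n hfib F hF _ _ u hsu hu (g.base x) (S x) (c1 x) (c2 x) (c3 x) (c4 x) (c5 x)).Hpull_eq_zero

variable (hloc : ∀ m, m < n → EtAcyc.IsLocAcyclicN g L m)

include hfib hsurj hloc in
/-- the comparison condition over a strictly local base -/
theorem compN_strict : EtAcyc.CompN g L n := by
  have hvan : ∀ (F : EtCoh.Ab (Spec (CommRingCat.of R))) (q : ℕ), Function.Injective (EtCore.Hpull g F (q + 1)) :=
    fun F q a b _ => (S0073.result R F (q + 1) (by omega)).elim a b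
  suffices key : ∀ m, m ≤ n → EtAcyc.CompN g L m from key n le_rfl
  intro m
  induction m with
  | zero =>
    intro _ F hF _
    exact ⟨fun q hq => by obtain rfl := Nat.le_zero.1 hq; exact bijective_zero g L n hfib F hsurj hF, hvan F 0⟩
  | succ m ih =>
    intro hm F hF _
    refine ⟨fun q hq => ?_, hvan F _⟩
    obtain hlt | rfl := Nat.lt_or_eq_of_le hq
    · exact (ih (by omega) F hF).1 q (by omega)
    · refine ⟨hvan F m, fun ξ => ?_⟩
      refine mem_range_of_fibres g L m (ih (by omega)) (hloc m (by omega)) F hF ξ fun y S _ _ _ _ hS => ?_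
      haveI : IsSepClosed (ResidueField S) := hS.isSepClosure.sep_closed
      intro _ _
      exact fibRange_of_isAcyclicScheme g L _ (hfib y S) F hF (m + 1) hm ξ

end Groth.Agent.AcycCover
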