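import Groth.Agent.AcycCover.StrictMap
import Groth.Agent.FibreAcyc.Main
import Groth.Agent.EtBC.Crit
import Groth.Agent.UnitStalk.Fibre
import Groth.Agent.EtFound.AcyclicComp

/-!
# Base change along closed subschemes of affine étale schemes, under local acyclicity
-/

set_option autoImplicit false
set_option linter.style.haveILetI false
universe u

open CategoryTheory CategoryTheory.Limits AlgebraicGeometry Opposite IsLocalRing

namespace Groth.Agent.AcycCover

open Groth.Agent.EtLimit Groth.Agent.EtFound Groth.Agent.EtBC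

set_option backward.isDefEq.respectTransparency.types false

/-- the comparison condition after base change to a closed subscheme of an affine étale scheme -/
theorem compN_of_factor {X' S' V B P : Scheme.{u}} (hh : X' ⟶ S') [QuasiCompact hh] [QuasiSeparated hh] (L : Set ℕ)
    (n : ℕ) (hac : EtAcyc.IsAcyclicN hh L n) (q : V ⟶ S') [AlgebraicGeometry.Etale q] [IsAffine V] (i : B ⟶ V)
    [IsClosedImmersion i] (m : P ⟶ B) (e : P ⟶ X') (sq : IsPullback m e (i ≫ q) hh) : EtAcyc.CompN m L n := by
  intro G hG _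
  let W : S'.Etale := Scheme.Etale.mk q
  let pY : P ⟶ pullback W.hom hh := pullback.lift (m ≫ i) e ((Category.assoc _ _ _).trans sq.w)
  have sq' : IsPullback m pY i (EtAcyc.prj hh W) := by
    refine IsPullback.of_bot (h₃₁ := hh) (v₂₂ := W.hom) (v₂₁ := pullback.snd W.hom hh) ?_
      (pullback.lift_fst _ _ _).symm (IsPullback.of_hasPullback W.hom hh)
    rw [pullback.lift_snd]
    exact sq
  haveI : IsAffine W.left := inferInstanceAs (IsAffine V)
  haveI : IsAffine B := isAffine_of_isAffineHom i
  haveI := pull_preservesFiniteLimits (EtAcyc.prj hh W)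
  exact compN_baseChange m (EtAcyc.prj hh W) i pY sq'.w L n (hac W)
    (fun Fb _ j _ => FibreAcyc.isIso_bcQ_integral sq' Fb j) G hG

variable {X T : Scheme.{u}} (f : X ⟶ T) [QuasiCompact f] [QuasiSeparated f] [IsAffine T] (L : Set ℕ) (n : ℕ)
  (hloc : EtAcyc.IsLocAcyclicN f L n) {C B P : Scheme.{u}} [IsAffine C] (q : C ⟶ T) [AlgebraicGeometry.Etale q]
  (i : B ⟶ C) [IsClosedImmersion i] {hb : P ⟶ B} {pY : P ⟶ X} (sq : IsPullback hb pY (i ≫ q) f)
  [PreservesFiniteLimits (EtCoh.pull hb)]

include hloc sq in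
set_option maxHeartbeats 1000000 in
/-- the base change maps along a closed subscheme of an affine étale scheme are isomorphisms in low degrees -/
theorem isIso_bcQ_factor (Fb : EtCoh.Ab B) (hFb : EtAcyc.IsLTorsion L Fb) (j : ℕ) (hj : j ≤ n) :
    IsIso (EtBC.bcQ (i ≫ q) f pY hb sq.w j Fb) := by
  haveI : IsAffine B := isAffine_of_isAffineHom i
  refine EtFound.isIso_of_stalks _ fun Ω _ _ ξ => ?_
  obtain ⟨x, RX, _, _, _, _, _, τ, rfl⟩ := exists_strict_point ξ
  obtain ⟨RS, _, _, _, _, _⟩ := S0537.result (T.presheaf.stalk (f.base x))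
  obtain ⟨ψ, _, hψ⟩ := exists_strictMap f x RS RX
  refine (ConcreteCategory.isIso_iff_bijective
    ((EtCoh.stalk (resPt RX τ ≫ Hens2.specOf X x RX)).map (EtBC.bcQ (i ≫ q) f pY hb sq.w j Fb))).1 ?_
  let π := Hens2.specOf T (f.base x) RS
  let h := Spec.map (CommRingCat.ofHom ψ)
  have hspec : h ≫ π = Hens2.specOf X x RX ≫ f := specOf_map x RS RX ψ hψ
  have hac : EtAcyc.IsAcyclicN h L n :=
    onStrictLocalizations_apply f hloc x (f.base x) rfl RS RX ψ hspec
  -- the étale scheme and the closed subscheme over the strict localization of the base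
  let V := pullback q π
  let qV : V ⟶ Spec (CommRingCat.of RS) := pullback.snd q π
  let B' := pullback i (pullback.fst q π)
  let iV : B' ⟶ V := pullback.snd i (pullback.fst q π)
  let aS : B' ⟶ B := pullback.fst i (pullback.fst q π)
  have hS : IsPullback aS (iV ≫ qV) (i ≫ q) π :=
    (IsPullback.of_hasPullback i (pullback.fst q π)).paste_vert (IsPullback.of_hasPullback q π)
  let PX := pullback (iV ≫ qV) h
  let m : PX ⟶ B' := pullback.fst (iV ≫ qV) h
  let bX : PX ⟶ Spec (CommRingCat.of RX) := pullback.snd (iV ≫ qV) h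
  have hX : IsPullback (m ≫ aS) bX (i ≫ q) (Hens2.specOf X x RX ≫ f) := by
    rw [← hspec]
    exact (IsPullback.of_hasPullback (iV ≫ qV) h).paste_horiz hS
  haveI : IsAffine V := inferInstanceAs (IsAffine (pullback q π))
  haveI : IsClosedImmersion iV := MorphismProperty.pullback_snd _ _ inferInstance
  haveI : PreservesFiniteLimits (EtCoh.pull m) := pull_preservesFiniteLimits _
  refine (isIso_stalk_iff_HpullVia sq x RS RX ψ hψ τ B' PX aS (iV ≫ qV) hS (m ≫ aS) bX hX m rfl pullback.condition
    Fb j).2 ?_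
  have hbij := ((compN_of_factor h L n hac qV iV m bX (IsPullback.of_hasPullback (iV ≫ qV) h))
    ((EtCoh.pull aS).obj Fb) (isLTorsion_pull aS L hFb)).1 j hj
  haveI : IsIso (appOf (θPull m aS (m ≫ aS) rfl) Fb) := by delta appOf; infer_instance
  have key : Function.Bijective (fun ξ => EtCore.HpullVia m aS (m ≫ aS) rfl Fb j ξ) := by
    rw [show (fun ξ => EtCore.HpullVia m aS (m ≫ aS) rfl Fb j ξ) = _ from
      funext fun ξ => HpullVia_eq m aS (m ≫ aS) rfl Fb j ξ]
    exact (hmap_bijective (appOf (θPull m aS (m ≫ aS) rfl) Fb) j).comp hbij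
  exact key

end Groth.Agent.AcycCover
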