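import Groth.Agent.FibreAcyc.Conn
import Groth.Agent.EtFound.CoprodSections

/-!
# Sections of constant sheaves on connected schemes
-/

set_option autoImplicit false
set_option linter.style.haveILetI false
universe u

open CategoryTheory CategoryTheory.Limits AlgebraicGeometry Opposite

namespace Groth.Agent.AcycCover

open Groth.Agent.EtFound Groth.Agent.FibreAcyc Groth.Agent.EtLimit Groth.Agent.EtBC

set_option backward.isDefEq.respectTransparency.types false

variable {X : Scheme.{u}} (M : AddCommGrpCat.{u + 1})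

/-- the constant sheaf -/
noncomputable abbrev Cst (X : Scheme.{u}) (M : AddCommGrpCat.{u + 1}) : X.Etaleᵒᵖ ⥤ AddCommGrpCat.{u + 1} :=
  sheafify X.smallEtaleTopology ((Functor.const X.Etaleᵒᵖ).obj M)

/-- restrictions of a section to two neighbourhoods of a point have the same constant value -/
theorem const_eq_of_common_point (s : (Cst X M).obj (op (EtCoh.top X))) {V V' : X.Etale} (g : V ⟶ EtCoh.top X)
    (g' : V' ⟶ EtCoh.top X) {m m' : M} (h : (Cst X M).map g.op s = constSec M V m)
    (h' : (Cst X M).map g'.op s = constSec M V' m') (v : V.left) (v' : V'.left)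
    (e : V.hom.base v = V'.hom.base v') : m = m' := by
  haveI : AlgebraicGeometry.Etale V.hom := V.prop
  haveI : AlgebraicGeometry.Etale V'.hom := V'.prop
  obtain ⟨z, hz, -⟩ := Scheme.Pullback.exists_preimage_pullback (f := V.hom) (g := V'.hom) v v' e
  let W : X.Etale := Scheme.Etale.mk (pullback.fst V.hom V'.hom ≫ V.hom)
  let a : W ⟶ V := MorphismProperty.Over.homMk (pullback.fst V.hom V'.hom) rfl trivial
  let b : W ⟶ V' := MorphismProperty.Over.homMk (pullback.snd V.hom V'.hom) pullback.condition.symm trivial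
  have hab : a ≫ g = b ≫ g' := (MorphismProperty.Over.mkIdTerminal EtCoh.etaleMP X).hom_ext _ _
  refine constSec_injective M W ⟨z⟩ ?_
  rw [← constSec_map M a m, ← constSec_map M b m', ← h, ← h']
  exact (ConcreteCategory.congr_hom ((Cst X M).map_comp g.op a.op) s).symm.trans
    ((congrArg (fun k : W ⟶ EtCoh.top X => (Cst X M).map k.op s) hab).trans
      (ConcreteCategory.congr_hom ((Cst X M).map_comp g'.op b.op) s))

/-- on a connected scheme the sections of a constant sheaf are constant -/
theorem constSec_surjective [ConnectedSpace X] : Function.Surjective (constSec (X := X) M (EtCoh.top X)) := by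
  intro s
  let η := toSheafify X.smallEtaleTopology ((Functor.const X.Etaleᵒᵖ).obj M)
  have hR := Presheaf.imageSieve_mem X.smallEtaleTopology η (U := op (EtCoh.top X)) s
  have hloc := (mem_topology_iff _).1 hR
  let A : M → Set X := fun m => {x | ∃ (V : X.Etale) (g : V ⟶ EtCoh.top X) (v : V.left),
    V.hom.base v = x ∧ (Cst X M).map g.op s = constSec M V m}
  have hA : ∀ m, IsOpen (A m) := fun m => by
    refine isOpen_iff_forall_mem_open.2 fun x hx => ?_
    obtain ⟨V, g, v, hv, hs⟩ := hx
    haveI : AlgebraicGeometry.Etale V.hom := V.prop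
    exact ⟨Set.range V.hom.base, fun y ⟨w, hw⟩ => ⟨V, g, w, hw, hs⟩, V.hom.isOpenMap.isOpen_range, v, hv⟩
  have hcov : ∀ x : X, ∃ m, x ∈ A m := fun x => by
    obtain ⟨V, g, v, ⟨m, hm⟩, hv⟩ := hloc x
    refine ⟨m, V, g, v, ?_, hm.symm⟩
    refine Eq.trans ?_ hv
    exact congrArg (fun k : V.left ⟶ X => k.base v) ((MorphismProperty.Over.w g).symm.trans (Category.comp_id _))
  have hdisj : ∀ {m m' : M} {x : X}, x ∈ A m → x ∈ A m' → m = m' := fun {m m' x} ⟨V, g, v, hv, h⟩ ⟨V', g', v', hv', h'⟩ =>
    const_eq_of_common_point M s g g' h h' v v' (hv.trans hv'.symm)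
  obtain ⟨x₀⟩ := (inferInstance : Nonempty X)
  obtain ⟨m₀, hm₀⟩ := hcov x₀
  have hall : A m₀ = Set.univ := by
    refine IsClopen.eq_univ ⟨?_, hA m₀⟩ ⟨x₀, hm₀⟩
    rw [← isOpen_compl_iff]
    refine isOpen_iff_forall_mem_open.2 fun x hx => ?_
    obtain ⟨m, hm⟩ := hcov x
    exact ⟨A m, fun y hy hy0 => hx (hdisj hy hy0 ▸ hm), hA m, hm⟩
  refine ⟨m₀, ?_⟩
  refine Sheaf.isSeparated ((presheafToSheaf X.smallEtaleTopology AddCommGrpCat.{u + 1}).obj
    ((Functor.const X.Etaleᵒᵖ).obj M)) (EtCoh.top X) _ hR _ _ ?_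
  rintro V g ⟨m, hm⟩
  refine Eq.trans (constSec_map M g m₀) ?_
  refine Eq.trans ?_ hm
  by_cases hV : Nonempty V.left
  · obtain ⟨v⟩ := hV
    obtain ⟨W, g', w, hw, h'⟩ : V.hom.base v ∈ A m₀ := hall ▸ Set.mem_univ _
    rw [const_eq_of_common_point M s g g' hm.symm h' v w hw.symm]
  · haveI : IsEmpty V.left := not_nonempty_iff.1 hV
    exact (subsingleton_sections_of_isEmpty ((presheafToSheaf X.smallEtaleTopology AddCommGrpCat.{u + 1}).obj
      ((Functor.const X.Etaleᵒᵖ).obj M)) V).elim _ _

end Groth.Agent.AcycCover
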